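import Groth.Agent.FlatPt5.Crit
import Groth.Agent.LimModLib.FlatStage
import Groth.Agent.MorLib.BaseChangeLim

/-!
# Flatness and injectivity at a point descend to a stage of a limit
-/

set_option autoImplicit false
set_option backward.isDefEq.respectTransparency false
set_option backward.isDefEq.respectTransparency.types false

universe u

open CategoryTheory CategoryTheory.Limits AlgebraicGeometry TopologicalSpace Opposite
open scoped TensorProduct

namespace Groth.Agent.FlatPt5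

section Ker

variable {A A' B B' : Type u} [CommRing A] [CommRing A'] [CommRing B] [CommRing B'] [Algebra A A']
  [Algebra A B] [Algebra A B'] [Algebra A' B'] [Algebra B B'] [IsScalarTower A A' B'] [IsScalarTower A B B']
  {M N M' N' : Type u} [AddCommGroup M] [Module B M] [Module A M] [IsScalarTower A B M]
  [AddCommGroup N] [Module B N] [Module A N] [IsScalarTower A B N]
  [AddCommGroup M'] [Module B M'] [Module B' M'] [IsScalarTower B B' M']
  [AddCommGroup N'] [Module B N'] [Module B' N'] [IsScalarTower B B' N']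

/-- With a flat cokernel, the kernel of a base change comes from the kernel. -/
theorem mem_span_ker_of_flat [Algebra.IsPushout A A' B B'] (u : M →ₗ[B] N) [Module.Flat A (N ⧸ LinearMap.range u)] {fM : M →ₗ[B] M'}
    (hM : IsBaseChange B' fM) {fN : N →ₗ[B] N'} (hN : IsBaseChange B' fN) (u' : M' →ₗ[B'] N')
    (hu : ∀ m, u' (fM m) = fN (u m)) {z : M'} (hz : u' z = 0) :
    z ∈ Submodule.span B' (fM '' (LinearMap.ker u : Set M)) := by
  let eM := (Algebra.IsPushout.cancelBaseChange A A' B B' M).symm.toAddEquiv.trans hM.equiv.toAddEquiv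
  let eN := (Algebra.IsPushout.cancelBaseChange A A' B B' N).symm.toAddEquiv.trans hN.equiv.toAddEquiv
  have heM : ∀ (a : A') (m : M), eM (a ⊗ₜ m) = algebraMap A' B' a • fM m := fun a m => by
    simp [eM, IsBaseChange.equiv_tmul]
  have heN : ∀ (a : A') (m : N), eN (a ⊗ₜ m) = algebraMap A' B' a • fN m := fun a m => by
    simp [eN, IsBaseChange.equiv_tmul]
  let uA := u.restrictScalars A
  have hcomm : ∀ w, u' (eM w) = eN (uA.lTensor A' w) := fun w => by
    induction w using TensorProduct.induction_on with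
    | zero => simp
    | tmul a m => rw [LinearMap.lTensor_tmul, heM, heN, map_smul, hu]; rfl
    | add v w hv hw => simp only [map_add, hv, hw]
  obtain ⟨w, rfl⟩ := eM.surjective z
  have h0 : uA.lTensor A' w = 0 := eN.injective (by rw [← hcomm, hz, map_zero])
  let I := LinearMap.range u
  let π : M →ₗ[A] I := u.rangeRestrict.restrictScalars A
  let ι : I →ₗ[A] N := I.subtype.restrictScalars A
  haveI : Module.Flat A (N ⧸ I) := ‹_›
  have hι : Function.Injective (ι.lTensor A') := LinearMap.lTensor_injective_of_exact_of_flat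
    (I.mkQ.restrictScalars A) (Submodule.mkQ_surjective I) ι Subtype.val_injective
    (LinearMap.exact_subtype_mkQ I) A'
  have h1 : π.lTensor A' w = 0 := by
    refine hι ?_
    rw [map_zero, ← LinearMap.lTensor_comp_apply]
    exact h0
  let κ : LinearMap.ker u →ₗ[A] M := (LinearMap.ker u).subtype.restrictScalars A
  have hex : Function.Exact κ π := fun m => by
    constructor
    · intro hm
      exact ⟨⟨m, congrArg Subtype.val hm⟩, rfl⟩
    · rintro ⟨k, rfl⟩
      exact Subtype.ext k.2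
  obtain ⟨v, hv⟩ := ((lTensor_exact A' hex u.surjective_rangeRestrict) w).1 h1
  rw [← hv]
  clear hv h1 h0 hz
  induction v using TensorProduct.induction_on with
  | zero => simp
  | tmul a k =>
    rw [LinearMap.lTensor_tmul, heM]
    exact Submodule.smul_mem _ _ (Submodule.subset_span ⟨_, k.2, rfl⟩)
  | add v v' hv hv' => rw [map_add, map_add]; exact add_mem hv hv'

end Ker

variable {X S X' T : Scheme.{u}} {a : X ⟶ S} {a' : X' ⟶ T} {g : X' ⟶ X} {b : T ⟶ S} {M N : X.Modules}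

theorem pullSec_map (g : X' ⟶ X) (u : M ⟶ N) {U : X.Opens} {W : X'.Opens} (hle : W ≤ g ⁻¹ᵁ U) (m : Γ(M, U)) :
    ((Scheme.Modules.pullback g).map u).app W (QCoh.pullSec g M hle m) = QCoh.pullSec g N hle (u.app U m) := by
  unfold QCoh.pullSec
  refine (QCoh.map_app_comm ((Scheme.Modules.pullback g).map u) (homOfLE hle) _).trans ?_
  refine congrArg (fun t => ((Scheme.Modules.pullback g).obj N).presheaf.map (homOfLE hle).op t) ?_
  exact (congr(($((Scheme.Modules.pullbackPushforwardAdjunction g).unit.naturality u)).app U m)).symm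

theorem pullSec_zero (g : X' ⟶ X) {U : X.Opens} {W : X'.Opens} (hle : W ≤ g ⁻¹ᵁ U) :
    QCoh.pullSec g M hle 0 = 0 :=
  (AddMonoidHom.mk' (QCoh.pullSec g M hle) (QCoh.pullSec_add g M hle)).map_zero

theorem mem_basicOpen_appLE_iff (g : X' ⟶ X) {U : X.Opens} {W : X'.Opens} (e : W ≤ g ⁻¹ᵁ U) (s : Γ(X, U)) (x : X') :
    x ∈ X'.basicOpen (g.appLE U W e s) ↔ x ∈ W ∧ g x ∈ X.basicOpen s := by
  rw [Scheme.basicOpen_appLE]
  exact Iff.rfl

theorem flatAt_of_baseChange [LocallyOfFinitePresentation a] (hc : IsPullback g a' a b) {F : X.Modules}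
    (hF : Coh.IsQCoh F) (hFp : CohB1.IsFP F) (x' : X') (h : FlatMod.IsFlatOverAt a F (g x')) :
    FlatMod.IsFlatOverAt a' ((Scheme.Modules.pullback g).obj F) x' := by
  obtain ⟨V, U, hV, hU, hle, -, hx, hfl⟩ := exists_affine_flat_nhd a hF hFp h (U := ⊤) (Opens.mem_top _)
  have hxV : b (a' x') ∈ V := by
    have := hle hx
    rwa [Scheme.Hom.mem_preimage, show a (g x') = b (a' x') from congr($(hc.w).base x')] at this
  obtain ⟨_, ⟨O, hO, rfl⟩, hxO, hOV⟩ :=
    T.isBasis_affineOpens.exists_subset_of_mem_open (show a' x' ∈ b ⁻¹ᵁ V from hxV) (b ⁻¹ᵁ V).2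
  refine (FlatBC5.flat_tensor_iff hc hF hV hU hle hO hOV).1 ?_ x' hx hxO
  letI : Algebra Γ(S, V) Γ(T, O) := (b.appLE V O hOV).hom.toAlgebra
  letI : Module Γ(S, V) Γ(F, U) := Module.compHom _ (a.appLE V U hle).hom
  haveI : Module.Flat Γ(S, V) Γ(F, U) := (QCoh.flat_appLE_iff a hF hU hV hle).2 hfl
  infer_instance

/-- A section of the kernel vanishing at a point, pulled back: a criterion for injectivity upstairs. -/
theorem injective_stalkOf_pullback (hc : IsPullback g a' a b) (hM : Coh.IsQCoh M) (hN : Coh.IsQCoh N)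
    (u : M ⟶ N) {V : S.Opens} (hV : IsAffineOpen V) {U : X.Opens} (hU : IsAffineOpen U) (hle : U ≤ a ⁻¹ᵁ V)
    (hflat : ∀ y ∈ U, FlatMod.IsFlatOverAt a (cokernel u) y) {O : T.Opens} (hO : IsAffineOpen O)
    (hOV : O ≤ b ⁻¹ᵁ V) {x' : X'} (hx : x' ∈ g ⁻¹ᵁ U ⊓ a' ⁻¹ᵁ O)
    (G : Set Γ(M, U)) (hG : LinearMap.ker (QCoh.appLin u U) ≤ Submodule.span _ G)
    (h0 : ∀ m ∈ G, ((Scheme.Modules.pullback g).obj M).presheaf.germ (g ⁻¹ᵁ U ⊓ a' ⁻¹ᵁ O) x' hx
      (QCoh.pullSec g M inf_le_left m) = 0) :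
    Function.Injective (stalkOf ((Scheme.Modules.pullback g).map u) x') := by
  let W : X'.Opens := g ⁻¹ᵁ U ⊓ a' ⁻¹ᵁ O
  have hW : IsAffineOpen W := by
    haveI : IsAffine _ := hV
    haveI : IsAffine _ := hO
    haveI : IsAffine _ := hU
    exact .of_isIso (Scheme.Hom.isPullback_resLE hc hOV hle (UY := W) rfl).isoPullback.hom
  have hpo := (isIso_pushoutSection_iff hc hOV hle (UY := W) rfl).mp
    (isIso_pushoutSection_of_isAffineOpen hc hOV hle rfl hV hO hU)
  letI : Algebra Γ(S, V) Γ(X, U) := (a.appLE V U hle).hom.toAlgebra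
  letI : Algebra Γ(S, V) Γ(T, O) := (b.appLE V O hOV).hom.toAlgebra
  letI : Algebra Γ(X, U) Γ(X', W) := (g.appLE U W inf_le_left).hom.toAlgebra
  letI : Algebra Γ(T, O) Γ(X', W) := (a'.appLE O W inf_le_right).hom.toAlgebra
  letI : Algebra Γ(S, V) Γ(X', W) := (a.appLE V U hle ≫ g.appLE U W inf_le_left).hom.toAlgebra
  haveI : IsScalarTower Γ(S, V) Γ(X, U) Γ(X', W) := .of_algebraMap_eq fun _ => rfl
  haveI : IsScalarTower Γ(S, V) Γ(T, O) Γ(X', W) := .of_algebraMap_eq fun r => congr($(hpo.w).hom r)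
  haveI : Algebra.IsPushout Γ(S, V) Γ(T, O) Γ(X, U) Γ(X', W) :=
    CommRingCat.isPushout_iff_isPushout.mp hpo.flip
  letI : Module Γ(S, V) Γ(M, U) := Module.compHom _ (a.appLE V U hle).hom
  haveI : IsScalarTower Γ(S, V) Γ(X, U) Γ(M, U) := .of_algebraMap_smul fun _ _ => rfl
  letI : Module Γ(S, V) Γ(N, U) := Module.compHom _ (a.appLE V U hle).hom
  haveI : IsScalarTower Γ(S, V) Γ(X, U) Γ(N, U) := .of_algebraMap_smul fun _ _ => rfl
  letI : Module Γ(S, V) Γ(cokernel u, U) := Module.compHom _ (a.appLE V U hle).hom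
  haveI : IsScalarTower Γ(S, V) Γ(X, U) Γ(cokernel u, U) := .of_algebraMap_smul fun _ _ => rfl
  haveI : Module.Flat Γ(S, V) Γ(cokernel u, U) :=
    (QCoh.flat_appLE_iff a (QCoh.isQCoh_cokernel hM hN u) hU hV hle).2 hflat
  haveI : Module.Flat Γ(S, V) (Γ(N, U) ⧸ LinearMap.range (QCoh.appLin u U)) :=
    Module.Flat.of_linearEquiv ((cokerEquiv hM hN u hU).restrictScalars Γ(S, V))
  let M' := (Scheme.Modules.pullback g).obj M
  let N' := (Scheme.Modules.pullback g).obj N
  letI : Module Γ(X, U) Γ(M', W) := Module.compHom _ (g.appLE U W inf_le_left).hom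
  haveI : IsScalarTower Γ(X, U) Γ(X', W) Γ(M', W) := .of_algebraMap_smul fun _ _ => rfl
  letI : Module Γ(X, U) Γ(N', W) := Module.compHom _ (g.appLE U W inf_le_left).hom
  haveI : IsScalarTower Γ(X, U) Γ(X', W) Γ(N', W) := .of_algebraMap_smul fun _ _ => rfl
  let lM : Γ(M, U) →ₗ[Γ(X, U)] Γ(M', W) :=
    { toFun := QCoh.pullSec g M inf_le_left
      map_add' := QCoh.pullSec_add g M inf_le_left
      map_smul' := fun r m => QCoh.pullSec_smul g M inf_le_left r m }
  let lN : Γ(N, U) →ₗ[Γ(X, U)] Γ(N', W) :=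
    { toFun := QCoh.pullSec g N inf_le_left
      map_add' := QCoh.pullSec_add g N inf_le_left
      map_smul' := fun r m => QCoh.pullSec_smul g N inf_le_left r m }
  have hbM : IsBaseChange Γ(X', W) lM :=
    QCoh.isBaseChange_pullback hU g hW hM inf_le_left (fun _ => rfl) lM fun _ => rfl
  have hbN : IsBaseChange Γ(X', W) lN :=
    QCoh.isBaseChange_pullback hU g hW hN inf_le_left (fun _ => rfl) lN fun _ => rfl
  refine (injective_stalkOf_iff (QCoh.isQCoh_pullback g hM) (QCoh.isQCoh_pullback g hN) _ hW hx).2 fun z hz => ?_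
  have hz' := mem_span_ker_of_flat (A := Γ(S, V)) (A' := Γ(T, O)) (QCoh.appLin u U) hbM hbN
    (QCoh.appLin ((Scheme.Modules.pullback g).map u) W) (fun m => pullSec_map g u inf_le_left m) (z := z) hz
  have key : ∀ m ∈ Submodule.span Γ(X, U) G, M'.presheaf.germ W x' hx (lM m) = 0 := fun m hm => by
    induction hm using Submodule.span_induction with
    | mem m hm => exact h0 m hm
    | zero => rw [map_zero, map_zero]
    | add p q _ _ hp hq => rw [map_add, map_add, hp, hq, add_zero]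
    | smul r p _ hp =>
      show M'.presheaf.germ W x' hx (lM (r • p)) = 0
      rw [show lM (r • p) = g.appLE U W inf_le_left r • lM p from QCoh.pullSec_smul g M inf_le_left r p,
        QCoh.germ_smul', hp, smul_zero]
  clear hz
  induction hz' using Submodule.span_induction with
  | mem w hw =>
    obtain ⟨m, hm, rfl⟩ := hw
    exact key m (hG hm)
  | zero => rw [map_zero]
  | add p q _ _ hp hq => rw [map_add, hp, hq, add_zero]
  | smul r p _ hp => rw [QCoh.germ_smul', hp, smul_zero]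

/-- Injectivity with flat cokernel is inherited by base change. -/
theorem injective_of_baseChange [LocallyOfFinitePresentation a] (hc : IsPullback g a' a b) (hM : Coh.IsQCoh M)
    (hMft : CohB1.IsFT M) (hN : Coh.IsQCoh N) (hNfp : CohB1.IsFP N) (u : M ⟶ N) (x' : X')
    (hinj : Function.Injective (stalkOf u (g x'))) (hflat : FlatMod.IsFlatOverAt a (cokernel u) (g x')) :
    Function.Injective (stalkOf ((Scheme.Modules.pullback g).map u) x') := by
  obtain ⟨V, U, hV, hU, hle, -, hx, hfl⟩ := exists_affine_flat_nhd a (QCoh.isQCoh_cokernel hM hN u)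
    (FPEnough.isFP_cokernel hM hMft hN hNfp u) hflat (U := ⊤) (Opens.mem_top _)
  have hxV : b (a' x') ∈ V := by
    have := hle hx
    rwa [Scheme.Hom.mem_preimage, show a (g x') = b (a' x') from congr($(hc.w).base x')] at this
  obtain ⟨_, ⟨O, hO, rfl⟩, hxO, hOV⟩ :=
    T.isBasis_affineOpens.exists_subset_of_mem_open (show a' x' ∈ b ⁻¹ᵁ V from hxV) (b ⁻¹ᵁ V).2
  refine injective_stalkOf_pullback hc hM hN u hV hU hle hfl hO hOV ⟨hx, hxO⟩
    (LinearMap.ker (QCoh.appLin u U)) Submodule.subset_span fun m hm => ?_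
  obtain ⟨s, hs, hsm⟩ := (QCoh.germ_eq_zero_iff hM hU hx m).1
    ((injective_stalkOf_iff hM hN u hU hx).1 hinj m (show m ∈ LinearMap.ker (QCoh.appLin u U) from hm))
  have hu : IsUnit (X'.presheaf.germ (g ⁻¹ᵁ U ⊓ a' ⁻¹ᵁ O) x' ⟨hx, hxO⟩ (g.appLE U _ inf_le_left s)) :=
    (X'.mem_basicOpen _ x' _).1 (by rw [Scheme.basicOpen_appLE]; exact ⟨⟨hx, hxO⟩, hs⟩)
  rw [← hu.smul_eq_zero, ← QCoh.germ_smul', ← QCoh.pullSec_smul, hsm]
  exact (congrArg _ (pullSec_zero g inf_le_left)).trans (map_zero _)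

theorem injective_stalkOf_of_arrowIso {M₁ N₁ M₂ N₂ : X.Modules} {u₁ : M₁ ⟶ N₁} {u₂ : M₂ ⟶ N₂}
    (e : Arrow.mk u₁ ≅ Arrow.mk u₂) (x : X) (h : Function.Injective (stalkOf u₁ x)) :
    Function.Injective (stalkOf u₂ x) := by
  let F := Scheme.Modules.toPresheaf X ⋙ TopCat.Presheaf.stalkFunctor Ab.{u} x
  haveI : Mono (F.map u₁) := (AddCommGrpCat.mono_iff_injective _).2 h
  have : MorphismProperty.monomorphisms Ab (F.map u₁) := inferInstanceAs (Mono _)
  exact (AddCommGrpCat.mono_iff_injective _).1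
    (((MorphismProperty.monomorphisms Ab).arrow_mk_iso_iff (F.mapArrow.mapIso e)).1 this)

/-- Sections vanishing at a point of the limit vanish at a stage. -/
theorem exists_stage_germ_zero {J : Type u} [SmallCategory J] [IsCofiltered J] {E : J ⥤ Scheme.{u}} {e : Cone E}
    (he : IsLimit e) [∀ {i j : J} (f : i ⟶ j), IsAffineHom (E.map f)] {j : J} {U : (E.obj j).Opens}
    (hU : IsAffineOpen U) {M : (E.obj j).Modules} (hM : Coh.IsQCoh M) (G : Finset Γ(M, U)) {x : e.pt}
    (hx : x ∈ LimModLib.limOpen e U)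
    (h : ∀ m ∈ G, ((Scheme.Modules.pullback (e.π.app j)).obj M).presheaf.germ (LimModLib.limOpen e U) x hx
      (QCoh.pullSec (e.π.app j) M le_rfl m) = 0) :
    ∃ (n : Over j) (hn : e.π.app n.left x ∈ LimModLib.stage U n), ∀ m ∈ G,
      ((Scheme.Modules.pullback (E.map n.hom)).obj M).presheaf.germ (LimModLib.stage U n) _ hn
        (QCoh.pullSec (E.map n.hom) M le_rfl m) = 0 := by
  classical
  haveI : IsAffineHom (e.π.app j) := isAffineHom_π_app E e he j
  let W := LimModLib.limOpen e U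
  have hW : IsAffineOpen W := hU.preimage (e.π.app j)
  have hkill : ∀ m ∈ G, ∃ s : Γ(e.pt, W), x ∈ e.pt.basicOpen s ∧ s • QCoh.pullSec (e.π.app j) M le_rfl m = 0 :=
    fun m hm => (QCoh.germ_eq_zero_iff (QCoh.isQCoh_pullback _ hM) hW hx _).1 (h m hm)
  choose! s hsx hs0 using hkill
  let sP : Γ(e.pt, W) := ∏ m ∈ G, s m
  have hsP : x ∈ e.pt.basicOpen sP := by
    rw [Scheme.mem_basicOpen _ _ x hx, map_prod, IsUnit.prod_iff]
    exact fun m hm => (e.pt.mem_basicOpen _ x hx).1 (hsx m hm)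
  obtain ⟨C, hCt, hCp⟩ := LimModLib.exists_algColim he hU
  obtain ⟨l, sl, hsl⟩ := C.surj sP
  let M' := (Scheme.Modules.pullback (e.π.app j)).obj M
  letI : Module Γ(E.obj j, U) Γ(M', W) := Module.compHom _ ((e.π.app j).appLE U W le_rfl).hom
  haveI : IsScalarTower Γ(E.obj j, U) Γ(e.pt, W) Γ(M', W) := .of_algebraMap_smul fun _ _ => rfl
  let lW : Γ(M, U) →ₗ[Γ(E.obj j, U)] Γ(M', W) :=
    { toFun := QCoh.pullSec (e.π.app j) M le_rfl
      map_add' := QCoh.pullSec_add _ _ le_rfl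
      map_smul' := fun r m => QCoh.pullSec_smul _ _ le_rfl r m }
  have hbW : IsBaseChange Γ(e.pt, W) lW :=
    QCoh.isBaseChange_pullback hU _ hW hM le_rfl (fun _ => rfl) lW fun _ => rfl
  obtain ⟨n, φ, hφ⟩ := C.exists_forall_T_eq_zero G (fun m => sl ⊗ₜ m) fun m hm => by
    rw [LimModLib.AlgColim.P_tmul, hsl]
    refine hbW.equiv.injective ?_
    rw [IsBaseChange.equiv_tmul, map_zero]
    show sP • QCoh.pullSec (e.π.app j) M le_rfl m = 0
    obtain ⟨r, hr⟩ : s m ∣ sP := Finset.dvd_prod_of_mem s hm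
    rw [hr, mul_comm, mul_smul, hs0 m hm, smul_zero]
  have hst : e.π.app n.left x ∈ (E.obj n.left).basicOpen (C.t φ sl) := by
    have : x ∈ e.pt.basicOpen (C.p n (C.t φ sl)) := by rw [C.cone, hsl]; exact hsP
    rw [hCp] at this
    exact ((mem_basicOpen_appLE_iff _ _ _ _).1 this).2
  have hn : e.π.app n.left x ∈ LimModLib.stage U n := (E.obj n.left).basicOpen_le _ hst
  refine ⟨n, hn, fun m hm => ?_⟩
  let M'' := (Scheme.Modules.pullback (E.map n.hom)).obj M
  letI : Module Γ(E.obj j, U) Γ(M'', LimModLib.stage U n) :=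
    Module.compHom _ ((E.map n.hom).appLE U (LimModLib.stage U n) le_rfl).hom
  haveI : IsScalarTower Γ(E.obj j, U) Γ(E.obj n.left, LimModLib.stage U n) Γ(M'', LimModLib.stage U n) :=
    .of_algebraMap_smul fun _ _ => rfl
  let lk : Γ(M, U) →ₗ[Γ(E.obj j, U)] Γ(M'', LimModLib.stage U n) :=
    { toFun := QCoh.pullSec (E.map n.hom) M le_rfl
      map_add' := QCoh.pullSec_add _ _ le_rfl
      map_smul' := fun r m => QCoh.pullSec_smul _ _ le_rfl r m }
  have hbk : IsBaseChange Γ(E.obj n.left, LimModLib.stage U n) lk :=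
    QCoh.isBaseChange_pullback hU (E.map n.hom) (hU.preimage (E.map n.hom)) hM le_rfl (fun _ => rfl) lk fun _ => rfl
  have h0 : C.t φ sl • lk m = 0 := by
    have := congrArg hbk.equiv ((LimModLib.AlgColim.T_tmul C φ sl m).symm.trans (hφ m hm))
    rwa [IsBaseChange.equiv_tmul, map_zero] at this
  exact (QCoh.germ_eq_zero_iff (QCoh.isQCoh_pullback _ hM) (hU.preimage (E.map n.hom)) hn _).2 ⟨_, hst, h0⟩

section Limit

variable {I : Type u} [SmallCategory I] [IsCofiltered I] {D : I ⥤ Scheme.{u}} {c : Cone D}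
  [∀ {i j : I} (f : i ⟶ j), IsAffineHom (D.map f)] {i : I} {X₀ Xp : Scheme.{u}} {a₀ : X₀ ⟶ D.obj i}
  [LocallyOfFinitePresentation a₀] {q : Xp ⟶ X₀} {f : Xp ⟶ c.pt} (hsq : IsPullback q f a₀ (c.π.app i))

/-- The pullback of the pullback to a stage is the pullback. -/
noncomputable def stageIso (j : Over i) :
    Scheme.Modules.pullback (pullback.fst a₀ (D.map j.hom)) ⋙
      Scheme.Modules.pullback (MorLib.BC.proj D a₀ hsq j) ≅ Scheme.Modules.pullback q :=
  Scheme.Modules.pullbackComp _ _ ≪≫ Scheme.Modules.pullbackCongr (MorLib.BC.proj_fst D a₀ hsq j)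

/-- The transition isomorphism between stages. -/
noncomputable def stepIso {j k : Over i} (ψ : k ⟶ j) :
    Scheme.Modules.pullback (pullback.fst a₀ (D.map j.hom)) ⋙
      Scheme.Modules.pullback ((MorLib.BC.diag D a₀).map ψ) ≅
        Scheme.Modules.pullback (pullback.fst a₀ (D.map k.hom)) :=
  Scheme.Modules.pullbackComp _ _ ≪≫ Scheme.Modules.pullbackCongr (MorLib.BC.map_fst D a₀ ψ)

omit [LocallyOfFinitePresentation a₀] in
theorem proj_map {j k : Over i} (ψ : k ⟶ j) :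
    MorLib.BC.proj D a₀ hsq k ≫ (MorLib.BC.diag D a₀).map ψ = MorLib.BC.proj D a₀ hsq j :=
  (MorLib.BC.cone D a₀ hsq).w ψ

omit [LocallyOfFinitePresentation a₀] in
theorem proj_map_apply {j k : Over i} (ψ : k ⟶ j) (x : Xp) :
    (MorLib.BC.diag D a₀).map ψ (MorLib.BC.proj D a₀ hsq k x) = MorLib.BC.proj D a₀ hsq j x :=
  congrArg (fun r : Xp ⟶ (MorLib.BC.diag D a₀).obj j => r x) (proj_map hsq ψ)

instance lfp_snd (j : Over i) : LocallyOfFinitePresentation (pullback.snd a₀ (D.map j.hom)) :=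
  MorphismProperty.pullback_snd _ _ inferInstance

variable (hc : IsLimit c)

include hc in
theorem exists_flatAt_stage {F : X₀.Modules} (hF : Coh.IsQCoh F) (hFp : CohB1.IsFP F) (x : Xp)
    (h : FlatMod.IsFlatOverAt f ((Scheme.Modules.pullback q).obj F) x) :
    ∃ j : Over i, FlatMod.IsFlatOverAt (pullback.snd a₀ (D.map j.hom))
      ((Scheme.Modules.pullback (pullback.fst a₀ (D.map j.hom))).obj F) (MorLib.BC.proj D a₀ hsq j x) := by
  obtain ⟨_, ⟨V₀, hV₀, rfl⟩, hxV, -⟩ :=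
    (D.obj i).isBasis_affineOpens.exists_subset_of_mem_open (Set.mem_univ (a₀ (q x))) isOpen_univ
  obtain ⟨U₀, hU₀, hxU, hUV⟩ := exists_isAffineOpen_mem_and_subset (x := q x) (U := a₀ ⁻¹ᵁ V₀) hxV
  let DX := MorLib.BC.diag D a₀
  let cX := MorLib.BC.cone D a₀ hsq
  have hcX := MorLib.BC.isLimitCone D a₀ hsq hc
  let T : Over i := Over.mk (𝟙 i)
  let U : (DX.obj T).Opens := pullback.fst a₀ (D.map T.hom) ⁻¹ᵁ U₀
  have hU : IsAffineOpen U := hU₀.preimage (pullback.fst a₀ (D.map T.hom))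
  let W : Xp.Opens := LimModLib.limOpen cX U
  haveI : IsAffineHom (cX.π.app T) := isAffineHom_π_app DX cX hcX T
  have hW : IsAffineOpen W := hU.preimage (cX.π.app T)
  have hxW : x ∈ W := by
    show pullback.fst a₀ (D.map T.hom) (MorLib.BC.proj D a₀ hsq T x) ∈ U₀
    rw [← Scheme.Hom.comp_apply, MorLib.BC.proj_fst]
    exact hxU
  haveI : LocallyOfFinitePresentation f := MorphismProperty.of_isPullback hsq inferInstance
  haveI := QCoh.isQCoh_pullback q hF
  obtain ⟨g, hgle, hxg⟩ := hW.exists_basicOpen_le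
    (V := (⟨_, S4863.result f ((Scheme.Modules.pullback q).obj F) (LimModLib.isFP_pullback q hF hFp)⟩ : Xp.Opens))
    ⟨x, h⟩ hxW
  obtain ⟨C, -, hCp⟩ := LimModLib.exists_algColim hcX hU
  obtain ⟨j₁, gj, rfl⟩ := C.surj g
  let j : Over i := j₁.left
  let Uj : (DX.obj j).Opens := (DX.obj j).basicOpen gj
  have hUj : IsAffineOpen Uj := (hU.preimage (DX.map j₁.hom)).basicOpen gj
  let Vj : (D.obj j.left).Opens := D.map j.hom ⁻¹ᵁ V₀
  have hVj : IsAffineOpen Vj := hV₀.preimage (D.map j.hom)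
  have hUVj : Uj ≤ pullback.snd a₀ (D.map j.hom) ⁻¹ᵁ Vj := fun z hz => by
    have hz1 : pullback.fst a₀ (D.map T.hom) (DX.map j₁.hom z) ∈ U₀ := (DX.obj j).basicOpen_le gj hz
    replace hz1 : pullback.fst a₀ (D.map j.hom) z ∈ U₀ :=
      (congrArg (fun r : DX.obj j ⟶ X₀ => r z) (MorLib.BC.map_fst D a₀ j₁.hom)) ▸ hz1
    show D.map j.hom (pullback.snd a₀ (D.map j.hom) z) ∈ V₀
    rw [← Scheme.Hom.comp_apply, ← pullback.condition, Scheme.Hom.comp_apply]
    exact hUV hz1
  have hW' : ∀ x' : Xp, MorLib.BC.proj D a₀ hsq j x' ∈ Uj → x' ∈ Xp.basicOpen (C.p j₁ gj) := fun x' hx' => by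
    rw [hCp]
    refine (mem_basicOpen_appLE_iff _ _ _ _).2 ⟨?_, hx'⟩
    show cX.π.app T x' ∈ U
    rw [← cX.w j₁.hom]
    exact (DX.obj j).basicOpen_le gj hx'
  have hxUj : MorLib.BC.proj D a₀ hsq j x ∈ Uj := by
    rw [hCp] at hxg
    exact ((mem_basicOpen_appLE_iff _ _ _ _).1 hxg).2
  have hFj := QCoh.isQCoh_pullback (pullback.fst a₀ (D.map j.hom)) hF
  have hFjp := LimModLib.isFP_pullback (pullback.fst a₀ (D.map j.hom)) hF hFp
  let Fj := (Scheme.Modules.pullback (pullback.fst a₀ (D.map j.hom))).obj F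
  obtain ⟨C', hCt', -⟩ := LimModLib.exists_algColim hc hVj
  have hid : ∀ (k : Over j.left) (y : Γ(D.obj k.left, LimModLib.stage Vj k)), C'.t (𝟙 k) y = y := fun k y => by
    rw [hCt', LimModLib.appLE_congr' (show D.map (Over.Hom.left (𝟙 k)) = 𝟙 _ by rw [Over.id_left, D.map_id])]
    simp only [Scheme.Hom.appLE, Scheme.Hom.id_app, Category.id_comp]
    exact congr($((D.obj k.left).presheaf.map_id _) y)
  letI : Algebra Γ(D.obj j.left, Vj) Γ(DX.obj j, Uj) := ((pullback.snd a₀ (D.map j.hom)).appLE Vj Uj hUVj).hom.toAlgebra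
  letI : Module Γ(D.obj j.left, Vj) Γ(Fj, Uj) :=
    Module.compHom _ ((pullback.snd a₀ (D.map j.hom)).appLE Vj Uj hUVj).hom
  haveI : IsScalarTower Γ(D.obj j.left, Vj) Γ(DX.obj j, Uj) Γ(Fj, Uj) := .of_algebraMap_smul fun _ _ => rfl
  haveI : Algebra.FinitePresentation Γ(D.obj j.left, Vj) Γ(DX.obj j, Uj) :=
    (pullback.snd a₀ (D.map j.hom)).finitePresentation_appLE hVj hUj hUVj
  haveI : Module.FinitePresentation Γ(DX.obj j, Uj) Γ(Fj, Uj) := QCoh.finitePresentation_of_isFP hFjp hUj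
  haveI : IsAffineHom (c.π.app j.left) := isAffineHom_π_app D c hc j.left
  obtain ⟨k, hk⟩ := C'.exists_flat hid (B₀ := Γ(DX.obj j, Uj)) Γ(Fj, Uj)
    ((FlatBC5.flat_tensor_iff (MorLib.BC.isPullback_proj D a₀ hsq j) hFj hVj hUj hUVj
      (hVj.preimage (c.π.app j.left)) le_rfl).2 fun x' hx' _ =>
        GrFlat5.isFlatOverAt_of_iso f ((stageIso hsq j).app F).symm x' (hgle (hW' x' hx')))
  let m : Over i := Over.mk (k.hom ≫ j.hom)
  let ψ : m ⟶ j := Over.homMk k.hom
  refine ⟨m, GrFlat5.isFlatOverAt_of_iso _ ((stepIso ψ).app F) _ ?_⟩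
  refine (FlatBC5.flat_tensor_iff (MorLib.BC.isPullback_map D a₀ ψ) hFj hVj hUj hUVj
    (hVj.preimage (D.map k.hom)) le_rfl).1 hk _ ?_ ?_
  · exact (proj_map_apply hsq ψ x).symm ▸ hxUj
  · show D.map ψ.left (pullback.snd a₀ (D.map m.hom) (MorLib.BC.proj D a₀ hsq m x)) ∈ Vj
    rw [← Scheme.Hom.comp_apply (pullback.snd a₀ (D.map m.hom)), ← MorLib.BC.map_snd, Scheme.Hom.comp_apply,
      ← Scheme.Hom.comp_apply (MorLib.BC.proj D a₀ hsq m), proj_map]
    exact hUVj hxUj

/-- Flatness at a stage persists. -/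
theorem flatAt_later {F : X₀.Modules} (hF : Coh.IsQCoh F) (hFp : CohB1.IsFP F) {j k : Over i} (ψ : k ⟶ j)
    (x : Xp) (h : FlatMod.IsFlatOverAt (pullback.snd a₀ (D.map j.hom))
      ((Scheme.Modules.pullback (pullback.fst a₀ (D.map j.hom))).obj F) (MorLib.BC.proj D a₀ hsq j x)) :
    FlatMod.IsFlatOverAt (pullback.snd a₀ (D.map k.hom))
      ((Scheme.Modules.pullback (pullback.fst a₀ (D.map k.hom))).obj F) (MorLib.BC.proj D a₀ hsq k x) := by
  refine GrFlat5.isFlatOverAt_of_iso _ ((stepIso ψ).app F) _ (flatAt_of_baseChange (MorLib.BC.isPullback_map D a₀ ψ)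
    (QCoh.isQCoh_pullback _ hF) (LimModLib.isFP_pullback _ hF hFp) _ ?_)
  exact (proj_map_apply hsq ψ x).symm ▸ h

include hc in
theorem exists_injFlat_stage {F G : X₀.Modules} (hF : Coh.IsQCoh F) (hFp : CohB1.IsFP F)
    (hG : Coh.IsQCoh G) (hGp : CohB1.IsFP G) (u : F ⟶ G) (x : Xp)
    (hinj : Function.Injective (stalkOf ((Scheme.Modules.pullback q).map u) x))
    (hflat : FlatMod.IsFlatOverAt f (cokernel ((Scheme.Modules.pullback q).map u)) x) :
    ∃ j : Over i,
      Function.Injective (stalkOf ((Scheme.Modules.pullback (pullback.fst a₀ (D.map j.hom))).map u)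
        (MorLib.BC.proj D a₀ hsq j x)) ∧
      FlatMod.IsFlatOverAt (pullback.snd a₀ (D.map j.hom))
        (cokernel ((Scheme.Modules.pullback (pullback.fst a₀ (D.map j.hom))).map u))
        (MorLib.BC.proj D a₀ hsq j x) := by
  have hFt := LimModLib.isFT_of_isFP hF hFp
  have hK := QCoh.isQCoh_cokernel hF hG u
  have hKp := FPEnough.isFP_cokernel hF hFt hG hGp u
  obtain ⟨j, hj⟩ := exists_flatAt_stage hsq hc hK hKp x
    (GrFlat5.isFlatOverAt_of_iso f (PreservesCokernel.iso (Scheme.Modules.pullback q) u).symm x hflat)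
  let DX := MorLib.BC.diag D a₀
  let cX := MorLib.BC.cone D a₀ hsq
  have hcX := MorLib.BC.isLimitCone D a₀ hsq hc
  let pj := pullback.fst a₀ (D.map j.hom)
  let sj := pullback.snd a₀ (D.map j.hom)
  let uj := (Scheme.Modules.pullback pj).map u
  have hFj := QCoh.isQCoh_pullback pj hF
  have hFjp := LimModLib.isFP_pullback pj hF hFp
  have hFjt := LimModLib.isFT_of_isFP hFj hFjp
  have hGj := QCoh.isQCoh_pullback pj hG
  have hGjp := LimModLib.isFP_pullback pj hG hGp
  have hj' := GrFlat5.isFlatOverAt_of_iso sj (PreservesCokernel.iso (Scheme.Modules.pullback pj) u) _ hj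
  obtain ⟨V, U, hV, hU, hle, -, hxU, hfl⟩ := exists_affine_flat_nhd sj (QCoh.isQCoh_cokernel hFj hGj uj)
    (FPEnough.isFP_cokernel hFj hFjt hGj hGjp uj) hj' (U := ⊤) (Opens.mem_top _)
  obtain ⟨G₁, hG₁⟩ := fg_ker_appLin sj hFj hFjt hGj hGjp uj hU hV hle hfl
  let W : Xp.Opens := LimModLib.limOpen cX U
  haveI : IsAffineHom (cX.π.app j) := isAffineHom_π_app DX cX hcX j
  have hW : IsAffineOpen W := hU.preimage (cX.π.app j)
  let M' := (Scheme.Modules.pullback (MorLib.BC.proj D a₀ hsq j)).obj ((Scheme.Modules.pullback pj).obj F)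
  have hinj' : Function.Injective (stalkOf ((Scheme.Modules.pullback (MorLib.BC.proj D a₀ hsq j)).map uj) x) :=
    injective_stalkOf_of_arrowIso
      (Arrow.isoMk ((stageIso hsq j).app F).symm ((stageIso hsq j).app G).symm
        ((stageIso hsq j).inv.naturality u).symm) x hinj
  obtain ⟨n, hn, hn0⟩ := exists_stage_germ_zero hcX (j := j) hU hFj G₁ (x := x) hxU fun m hm => by
    refine (injective_stalkOf_iff (QCoh.isQCoh_pullback _ hFj) (QCoh.isQCoh_pullback _ hGj) _ hW hxU).1 hinj' _ ?_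
    refine (pullSec_map (MorLib.BC.proj D a₀ hsq j) uj (le_rfl : W ≤ _) m).trans ?_
    rw [show uj.app U m = 0 from
      (show m ∈ LinearMap.ker (QCoh.appLin uj U) from hG₁.le (Submodule.subset_span hm))]
    exact pullSec_zero _ _
  let k : Over i := n.left
  let ψ : k ⟶ j := n.hom
  refine ⟨k, ?_, GrFlat5.isFlatOverAt_of_iso _ (PreservesCokernel.iso (Scheme.Modules.pullback _) u) _
    (flatAt_later hsq hK hKp ψ x hj)⟩
  refine injective_stalkOf_of_arrowIso (Arrow.isoMk ((stepIso ψ).app F) ((stepIso ψ).app G)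
    ((stepIso ψ).hom.naturality u).symm) _ ?_
  have hwk : MorLib.BC.proj D a₀ hsq k x ∈ pullback.snd a₀ (D.map k.hom) ⁻¹ᵁ (D.map ψ.left ⁻¹ᵁ V) := by
    show (pullback.snd a₀ (D.map k.hom) ≫ D.map ψ.left) (MorLib.BC.proj D a₀ hsq k x) ∈ V
    rw [← MorLib.BC.map_snd]
    show pullback.snd a₀ (D.map j.hom) ((MorLib.BC.diag D a₀).map ψ (MorLib.BC.proj D a₀ hsq k x)) ∈ V
    rw [proj_map_apply]
    exact hle hxU
  refine injective_stalkOf_pullback (MorLib.BC.isPullback_map D a₀ ψ) hFj hGj uj hV hU hle hfl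
    (hV.preimage (D.map ψ.left)) le_rfl (x' := MorLib.BC.proj D a₀ hsq k x) ⟨hn, hwk⟩ G₁ hG₁.ge fun m hm => ?_
  let M'' := (Scheme.Modules.pullback (DX.map ψ)).obj ((Scheme.Modules.pullback pj).obj F)
  refine ((?_ : _ = _).trans (M''.presheaf.germ_res_apply (homOfLE inf_le_left) _ ⟨hn, hwk⟩
    (QCoh.pullSec (DX.map ψ) ((Scheme.Modules.pullback pj).obj F) le_rfl m))).trans (hn0 m hm)
  congr 1
  exact (QCoh.map_map (M := M'') (homOfLE inf_le_left) (homOfLE le_rfl) _).symm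

end Limit

end Groth.Agent.FlatPt5
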