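import Groth.Agent.FlatPt5.Stage
import Groth.Agent.ConsPropLib.ModLoci

/-!
# Descent of a flat module to a finitely generated subring
-/

set_option autoImplicit false
set_option backward.isDefEq.respectTransparency false
set_option backward.isDefEq.respectTransparency.types false
set_option linter.style.haveILetI false

universe u

open CategoryTheory CategoryTheory.Limits AlgebraicGeometry TopologicalSpace Opposite

namespace Groth.Agent.FlatPt5

variable {A : CommRingCat.{u}} {X : Scheme.{u}} (f : X ⟶ Spec A)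

open ConsPropLib ConsPropLib.NoethApprox in
theorem exists_subring_model [LocallyOfFinitePresentation f] [QuasiCompact f] [QuasiSeparated f]
    (F : X.Modules) (hq : Coh.IsQCoh F) (hF : CohB1.IsFP F) :
    ∃ (i : (Finset A)ᵒᵖ) (Xi : Scheme.{u}) (fi : Xi ⟶ (diagram A).obj i) (g : X ⟶ Xi) (Fi : Xi.Modules),
      IsModel (c := NoethApprox.cone A) f i fi g ∧ Coh.IsQCoh Fi ∧ CohB1.IsFP Fi ∧
      Nonempty ((Scheme.Modules.pullback g).obj Fi ≅ F) := by
  have hc := NoethApprox.isLimit A
  haveI : ∀ {i j : (Finset A)ᵒᵖ} (r : i ⟶ j), IsAffineHom ((diagram A).map r) := fun r => inferInstance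
  obtain ⟨i, X₁, u₁, g₁, hm⟩ := hasModel hc f
  haveI := hm.lfp; haveI := hm.qc; haveI := hm.qs
  let DX := MorLib.BC.diag (diagram A) u₁
  let T : Over i := Over.mk (𝟙 i)
  haveI hT := hm.pushed T.hom
  haveI : CompactSpace (DX.obj T) := hT.compactSpace
  haveI : QuasiSeparatedSpace (DX.obj T) := hT.quasiSeparatedSpace
  haveI : Coh.IsQCoh (X := (MorLib.BC.cone (diagram A) u₁ (c := NoethApprox.cone A) hm.sq).pt) F := hq
  obtain ⟨j, -, Fj, hjq, hjF, ⟨ej⟩⟩ := S4788.result DX (MorLib.BC.cone (diagram A) u₁ (c := NoethApprox.cone A) hm.sq)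
    (MorLib.BC.isLimitCone (diagram A) u₁ (c := NoethApprox.cone A) hm.sq hc) T F hF
  refine ⟨j.left, _, pullback.snd u₁ ((diagram A).map j.hom), hm.push j.hom, Fj, hm.pushed j.hom, hjq, hjF, ⟨?_⟩⟩
  exact (Scheme.Modules.pullbackCongr
    (show hm.push j.hom = (MorLib.BC.cone (diagram A) u₁ (c := NoethApprox.cone A) hm.sq).π.app j from pullback.hom_ext
      ((hm.push_fst j.hom).trans (MorLib.BC.proj_fst (diagram A) u₁ (c := NoethApprox.cone A) hm.sq j).symm)
      ((hm.push_snd j.hom).trans (MorLib.BC.proj_snd (diagram A) u₁ (c := NoethApprox.cone A) hm.sq j).symm))).app Fj ≪≫ ej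

open ConsPropLib ConsPropLib.NoethApprox in
theorem pushed_data {i : (Finset A)ᵒᵖ} {Xi : Scheme.{u}} {fi : Xi ⟶ (diagram A).obj i} {g : X ⟶ Xi}
    {Fi : Xi.Modules} (hm : IsModel (c := NoethApprox.cone A) f i fi g) (hq : Coh.IsQCoh Fi)
    (hF : CohB1.IsFP Fi) {F : X.Modules} (e : (Scheme.Modules.pullback g).obj Fi ≅ F) (k : Over i) :
    LocallyOfFiniteType (pullback.snd fi ((diagram A).map k.hom)) ∧
      QuasiCompact (pullback.snd fi ((diagram A).map k.hom)) ∧
      Coh.IsCoh ((Scheme.Modules.pullback (pullback.fst fi ((diagram A).map k.hom))).obj Fi) ∧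
      IsPullback (MorLib.BC.proj (diagram A) fi (c := NoethApprox.cone A) hm.sq k) f (pullback.snd fi ((diagram A).map k.hom))
        ((NoethApprox.cone A).π.app k.left) ∧
      Nonempty ((Scheme.Modules.pullback (MorLib.BC.proj (diagram A) fi (c := NoethApprox.cone A) hm.sq k)).obj
        ((Scheme.Modules.pullback (pullback.fst fi ((diagram A).map k.hom))).obj Fi) ≅ F) := by
  haveI := hm.lfp; haveI := hm.qc; haveI := hm.qs
  haveI : ∀ {i j : (Finset A)ᵒᵖ} (r : i ⟶ j), IsAffineHom ((diagram A).map r) := fun r => inferInstance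
  haveI : IsLocallyNoetherian (pullback fi ((diagram A).map k.hom)) :=
    LocallyOfFiniteType.isLocallyNoetherian (pullback.snd fi ((diagram A).map k.hom))
  exact ⟨inferInstance, inferInstance,
    QCoh.isCoh_iff_isFP.2 (LimModLib.isFP_pullback _ hq hF),
    MorLib.BC.isPullback_proj (diagram A) fi (c := NoethApprox.cone A) hm.sq k, ⟨(stageIso (c := NoethApprox.cone A) hm.sq k).app Fi ≪≫ e⟩⟩

end Groth.Agent.FlatPt5
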