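import Groth.Agent.S0392
import Mathlib.LinearAlgebra.TensorProduct.Quotient
import Groth.Prelude.Def_FlatMod2
import Groth.Agent.QCoh.Stalk
import Groth.Agent.LimModLib.FP
import Groth.Agent.QCoh.Support

/-!
# The fibre module over the fibre ring, and the fibrewise criterion on noetherian schemes
-/

set_option autoImplicit false
set_option backward.isDefEq.respectTransparency false
set_option backward.isDefEq.respectTransparency.types false

universe u

open CategoryTheory AlgebraicGeometry TensorProduct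

namespace Groth.Agent.FlatPt5

/-- Flatness of the reduction over the quotient ring, in its two forms. -/
theorem flat_quotient_iff {S M : Type u} [CommRing S] [AddCommGroup M] [Module S M] (I : Ideal S) :
    Module.Flat (S ⧸ I) (M ⧸ (I • (⊤ : Submodule S M))) ↔ Module.Flat (S ⧸ I) ((S ⧸ I) ⊗[S] M) := by
  let e := TensorProduct.quotTensorEquivQuotSMul M I
  let e' : (S ⧸ I) ⊗[S] M ≃ₗ[S ⧸ I] M ⧸ (I • (⊤ : Submodule S M)) :=
    { e with
      map_smul' := fun c z => by
        obtain ⟨c, rfl⟩ := Ideal.Quotient.mk_surjective c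
        show e (Ideal.Quotient.mk I c • z) = Ideal.Quotient.mk I c • e z
        rw [← Ideal.Quotient.algebraMap_eq, algebraMap_smul, algebraMap_smul, map_smul] }
  exact ⟨fun h => Module.Flat.of_linearEquiv e', fun h => Module.Flat.of_linearEquiv e'.symm⟩

theorem fibre_criterion {X Y S : Scheme.{u}}
    [IsLocallyNoetherian X] [IsLocallyNoetherian Y] [IsLocallyNoetherian S]
    (f : X ⟶ Y) (h : Y ⟶ S) (F : X.Modules) (hF : Coh.IsCoh F) (x : X)
    (hx : Nontrivial ↑(F.presheaf.stalk x)) :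
    letI := FlatMod.moduleStalkOver f F x
    (FlatMod.IsFlatOverAt (f ≫ h) F x ∧
      Module.Flat (↑(Y.presheaf.stalk (f x)) ⧸ Ideal.map (h.stalkMap (f x)).hom (IsLocalRing.maximalIdeal ↑(S.presheaf.stalk (h (f x)))))
        (↑(F.presheaf.stalk x) ⧸ (Ideal.map (h.stalkMap (f x)).hom (IsLocalRing.maximalIdeal ↑(S.presheaf.stalk (h (f x)))) •
          (⊤ : Submodule ↑(Y.presheaf.stalk (f x)) ↑(F.presheaf.stalk x))))) ↔
    ((h.stalkMap (f x)).hom.Flat ∧ FlatMod.IsFlatOverAt f F x) := by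
  letI : Algebra ↑(S.presheaf.stalk (h (f x))) ↑(Y.presheaf.stalk (f x)) := (h.stalkMap (f x)).hom.toAlgebra
  letI : Algebra ↑(Y.presheaf.stalk (f x)) ↑(X.presheaf.stalk x) := (f.stalkMap x).hom.toAlgebra
  letI : Algebra ↑(S.presheaf.stalk (h (f x))) ↑(X.presheaf.stalk x) :=
    ((f.stalkMap x).hom.comp (h.stalkMap (f x)).hom).toAlgebra
  haveI : IsScalarTower ↑(S.presheaf.stalk (h (f x))) ↑(Y.presheaf.stalk (f x)) ↑(X.presheaf.stalk x) :=
    .of_algebraMap_eq fun _ => rfl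
  letI := FlatMod.moduleStalkOver f F x
  letI mS : Module ↑(S.presheaf.stalk (h (f x))) ↑(F.presheaf.stalk x) :=
    Module.compHom _ ((f.stalkMap x).hom.comp (h.stalkMap (f x)).hom)
  haveI : IsScalarTower ↑(Y.presheaf.stalk (f x)) ↑(X.presheaf.stalk x) ↑(F.presheaf.stalk x) :=
    .of_algebraMap_smul fun _ _ => rfl
  haveI : IsScalarTower ↑(S.presheaf.stalk (h (f x))) ↑(Y.presheaf.stalk (f x)) ↑(F.presheaf.stalk x) :=
    .of_algebraMap_smul fun _ _ => rfl
  haveI : IsLocalHom (algebraMap ↑(S.presheaf.stalk (h (f x))) ↑(Y.presheaf.stalk (f x))) :=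
    inferInstanceAs (IsLocalHom (h.stalkMap (f x)).hom)
  haveI : IsLocalHom (algebraMap ↑(Y.presheaf.stalk (f x)) ↑(X.presheaf.stalk x)) :=
    inferInstanceAs (IsLocalHom (f.stalkMap x).hom)
  have hcomp : FlatMod.IsFlatOverAt (f ≫ h) F x ↔ Module.Flat ↑(S.presheaf.stalk (h (f x))) ↑(F.presheaf.stalk x) := by
    have e : (Scheme.Hom.stalkMap (f ≫ h) x).hom = (f.stalkMap x).hom.comp (h.stalkMap (f x)).hom := by
      rw [Scheme.Hom.stalkMap_comp]; rfl
    show @Module.Flat _ _ _ _ (Module.compHom _ (Scheme.Hom.stalkMap (f ≫ h) x).hom) ↔ _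
    have key : ∀ φ : ↑(S.presheaf.stalk (h (f x))) →+* ↑(X.presheaf.stalk x),
        φ = (f.stalkMap x).hom.comp (h.stalkMap (f x)).hom →
        (@Module.Flat ↑(S.presheaf.stalk (h (f x))) ↑(F.presheaf.stalk x) _ _ (Module.compHom _ φ) ↔
          @Module.Flat ↑(S.presheaf.stalk (h (f x))) ↑(F.presheaf.stalk x) _ _ mS) := by
      rintro _ rfl; exact Iff.rfl
    exact key (Scheme.Hom.stalkMap (f ≫ h) x).hom e
  rw [hcomp]
  have hq := QCoh.isQCoh_of_isFP (QCoh.isCoh_iff_isFP.1 hF)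
  haveI := QCoh.finite_stalk_of_isFT hq (LimModLib.isFT_of_isFP hq (QCoh.isCoh_iff_isFP.1 hF)) x
  constructor
  · rintro ⟨hflat, hfib⟩
    haveI := hflat
    exact Groth.Agent.S0392.result (R := ↑(S.presheaf.stalk (h (f x)))) (S := ↑(Y.presheaf.stalk (f x)))
      (S' := ↑(X.presheaf.stalk x)) (M := ↑(F.presheaf.stalk x)) ((flat_quotient_iff _).1 hfib)
  · rintro ⟨hh, hf⟩
    haveI : Module.Flat ↑(S.presheaf.stalk (h (f x))) ↑(Y.presheaf.stalk (f x)) := hh
    haveI : Module.Flat ↑(Y.presheaf.stalk (f x)) ↑(F.presheaf.stalk x) := hf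
    exact ⟨Module.Flat.trans ↑(S.presheaf.stalk (h (f x))) ↑(Y.presheaf.stalk (f x)) _,
      (flat_quotient_iff _).2 inferInstance⟩

end Groth.Agent.FlatPt5
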