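import Groth.Agent.FlatModel.InjModMaxPoly
import Groth.Agent.FlatModel.Open
import Groth.Agent.FlatSyz5.Basic
import Groth.Agent.S0393

/-!
# Injectivity at a prime with cokernel flat over the base

For a homomorphism `u : M → N` of modules over an `A`-algebra `B` and a prime `q` of `B`: the
criterion by injectivity modulo the prime of the base, finiteness of the kernel and behaviour of the
kernel under base change when the cokernel is flat over `A`.
-/

set_option autoImplicit false

namespace Groth.Agent.FlatPt5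

open TensorProduct

universe u

theorem mem_map_smul_top_iff {A T X : Type u} [CommRing A] [CommRing T] [Algebra A T] [AddCommGroup X]
    [Module A X] [Module T X] [IsScalarTower A T X] (p : Ideal A) (x : X) :
    x ∈ p.map (algebraMap A T) • (⊤ : Submodule T X) ↔ x ∈ p • (⊤ : Submodule A X) := by
  rw [← Submodule.restrictScalars_mem A, Submodule.restrictScalars_map_smul_eq,
    Submodule.restrictScalars_top]

/-- Quotients of a localisation localised further. -/
theorem exists_quot_localized {S P : Type u} [CommRing S] [CommRing P] [Algebra S P] (W : Submonoid S)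
    [IsLocalization W P] {N N' : Type u} [AddCommGroup N] [Module S N] [AddCommGroup N'] [Module S N']
    [Module P N'] [IsScalarTower S P N'] (f : N →ₗ[S] N') [IsLocalizedModule W f]
    (K : Submodule S N) (K' : Submodule P N') (hK : ∀ x ∈ K, f x ∈ K')
    (hK' : ∀ z ∈ K', ∃ k ∈ K, ∃ w : W, w • z = f k)
    (Q : Ideal P) [Q.IsPrime] (QA : Ideal S) [QA.IsPrime] (hQA : QA = Q.comap (algebraMap S P)) :
    ∃ g : (N ⧸ K) →ₗ[S] LocalizedModule Q.primeCompl (N' ⧸ K'), IsLocalizedModule QA.primeCompl g := by
  subst hQA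
  let m : (N' ⧸ K') →ₗ[P] LocalizedModule Q.primeCompl (N' ⧸ K') := LocalizedModule.mkLinearMap _ _
  let g₀ : N →ₗ[S] LocalizedModule Q.primeCompl (N' ⧸ K') :=
    (m.restrictScalars S) ∘ₗ (K'.mkQ.restrictScalars S) ∘ₗ f
  have hg₀ : K ≤ LinearMap.ker g₀ := fun x hx => by
    show m (K'.mkQ (f x)) = 0
    rw [Submodule.mkQ_apply, (Submodule.Quotient.mk_eq_zero _).2 (hK x hx), map_zero]
  have hW : ∀ w : W, (w : S) ∈ (Q.comap (algebraMap S P)).primeCompl := fun w hw =>
    Ideal.IsPrime.ne_top (inferInstance : Q.IsPrime) (Ideal.eq_top_of_isUnit_mem Q hw (IsLocalization.map_units P w))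
  refine ⟨K.liftQ g₀ hg₀, ⟨fun s => ?_, fun y => ?_, fun {y₁ y₂} he => ?_⟩⟩
  · have hu := IsLocalizedModule.map_units m (⟨algebraMap S P s.1, s.2⟩ : Q.primeCompl)
    rw [Module.End.isUnit_iff] at hu ⊢
    have he : ((algebraMap S (Module.End S (LocalizedModule Q.primeCompl (N' ⧸ K')))) s.1 :
        LocalizedModule Q.primeCompl (N' ⧸ K') → LocalizedModule Q.primeCompl (N' ⧸ K')) =
          fun z => algebraMap S P s.1 • z := funext fun z => (IsScalarTower.algebraMap_smul P s.1 z).symm
    rw [he]
    exact hu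
  · obtain ⟨⟨z, s⟩, hz⟩ := IsLocalizedModule.surj Q.primeCompl m y
    obtain ⟨z, rfl⟩ := Submodule.Quotient.mk_surjective _ z
    obtain ⟨⟨a, w⟩, haw⟩ := IsLocalizedModule.surj W f z
    obtain ⟨⟨s₀, w'⟩, hsw⟩ := IsLocalization.surj W (s : P)
    have hs₀ : s₀ ∈ (Q.comap (algebraMap S P)).primeCompl := fun hc => s.2
      ((Ideal.mul_unit_mem_iff_mem _ (IsLocalization.map_units P w')).1 (hsw.symm ▸ hc))
    refine ⟨(Submodule.Quotient.mk ((w' : S) • a), ⟨s₀ * w, mul_mem hs₀ (hW w)⟩), ?_⟩
    show (s₀ * (w : S)) • y = m (K'.mkQ (f ((w' : S) • a)))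
    rw [map_smul, show f a = (w : S) • z from haw.symm, smul_smul,
      ← IsScalarTower.algebraMap_smul P ((w' : S) * w) z, map_smul, map_smul, Submodule.mkQ_apply,
      ← show (s : P) • y = _ from hz, smul_smul, ← IsScalarTower.algebraMap_smul P (s₀ * (w : S)) y]
    congr 1
    rw [map_mul, map_mul, ← hsw]
    ring
  · obtain ⟨a₁, rfl⟩ := Submodule.Quotient.mk_surjective _ y₁
    obtain ⟨a₂, rfl⟩ := Submodule.Quotient.mk_surjective _ y₂
    obtain ⟨s, hs⟩ := IsLocalizedModule.exists_of_eq (S := Q.primeCompl)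
      (show m (Submodule.Quotient.mk (f a₁)) = m (Submodule.Quotient.mk (f a₂)) from he)
    rw [Submonoid.smul_def, Submonoid.smul_def, ← Submodule.Quotient.mk_smul, ← Submodule.Quotient.mk_smul,
      Submodule.Quotient.eq] at hs
    obtain ⟨⟨s₀, w'⟩, hsw⟩ := IsLocalization.surj W (s : P)
    have hs₀ : s₀ ∈ (Q.comap (algebraMap S P)).primeCompl := fun hc => s.2
      ((Ideal.mul_unit_mem_iff_mem _ (IsLocalization.map_units P w')).1 (hsw.symm ▸ hc))
    obtain ⟨k, hk, w, hw⟩ := hK' _ (Submodule.smul_mem K' (algebraMap S P w') hs)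
    have h1 : f k = f (((w : S) * s₀) • (a₁ - a₂)) := by
      rw [← hw, Submonoid.smul_def, map_smul, map_sub, mul_smul, ← IsScalarTower.algebraMap_smul P s₀, ← hsw,
        mul_comm (s : P), mul_smul, smul_sub (s : P)]
    obtain ⟨c, hc⟩ := IsLocalizedModule.exists_of_eq (S := W) h1
    refine ⟨⟨(c : S) * ((w : S) * s₀), mul_mem (hW c) (mul_mem (hW w) hs₀)⟩, ?_⟩
    rw [Submonoid.smul_def, Submonoid.smul_def, ← Submodule.Quotient.mk_smul, ← Submodule.Quotient.mk_smul,
      Submodule.Quotient.eq, ← smul_sub, mul_smul]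
    rw [← Submonoid.smul_def, ← hc]
    exact K.smul_mem _ hk

variable {A B : Type u} [CommRing A] [CommRing B] [Algebra A B]
  {M N : Type u} [AddCommGroup M] [Module B M] [AddCommGroup N] [Module B N]
  [Module A M] [IsScalarTower A B M] [Module A N] [IsScalarTower A B N]

set_option synthInstance.maxHeartbeats 100000 in
set_option maxHeartbeats 800000 in
/-- Injectivity modulo the prime of the base gives injectivity and a flat cokernel. -/
theorem injFlat_of_modMax [Algebra.FinitePresentation A B] [Module.FinitePresentation B M]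
    [Module.FinitePresentation B N] [Module.Flat A N] (q : Ideal B) [q.IsPrime] (u : M →ₗ[B] N)
    (h : ∀ x : M, (∃ s ∉ q, s • u x ∈ (q.comap (algebraMap A B)).map (algebraMap A B) • (⊤ : Submodule B N)) →
      ∃ s ∉ q, s • x ∈ (q.comap (algebraMap A B)).map (algebraMap A B) • (⊤ : Submodule B M)) :
    (∀ x, u x = 0 → ∃ s ∉ q, s • x = 0) ∧
      Module.Flat A (LocalizedModule q.primeCompl (N ⧸ LinearMap.range u)) := by
  classical
  obtain ⟨n, φ, hφ, hkerφ⟩ := Algebra.FinitePresentation.out (R := A) (A := B)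
  let S := MvPolynomial (Fin n) A
  let := φ.toRingHom.toAlgebra
  let := Module.compHom M φ.toRingHom
  let := Module.compHom N φ.toRingHom
  have : IsScalarTower S B M := ⟨fun p s m => mul_smul (φ p) s m⟩
  have : IsScalarTower S B N := ⟨fun p s m => mul_smul (φ p) s m⟩
  have : IsScalarTower A S M := ⟨fun r p m => by
    show φ (r • p) • m = r • φ p • m
    rw [map_smul, smul_assoc]⟩
  have : IsScalarTower A S N := ⟨fun r p m => by
    show φ (r • p) • m = r • φ p • m
    rw [map_smul, smul_assoc]⟩
  have hkA : (LinearMap.ker (Algebra.linearMap S B)).FG := hkerφ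
  have : Module.FinitePresentation S B :=
    Module.finitePresentation_of_surjective (Algebra.linearMap S B) hφ hkA
  have : Module.FinitePresentation S M := Module.FinitePresentation.trans _ M B
  have : Module.FinitePresentation S N := Module.FinitePresentation.trans _ N B
  let p : Ideal A := q.comap (algebraMap A B)
  have : p.IsPrime := Ideal.IsPrime.comap _
  let QA : Ideal S := q.comap φ
  have : QA.IsPrime := Ideal.IsPrime.comap φ
  have hQA : ∀ r : A, (MvPolynomial.C r : S) ∈ QA ↔ r ∈ p := fun r => by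
    show φ (MvPolynomial.C r) ∈ q ↔ algebraMap A B r ∈ q
    rw [← φ.commutes r]
    rfl
  let R := Localization.AtPrime p
  let P := MvPolynomial (Fin n) R
  let : Algebra S P := MvPolynomial.algebraMvPolynomial
  let W : Submonoid S := p.primeCompl.map (MvPolynomial.C : A →+* S)
  have : IsLocalization W P := MvPolynomial.isLocalization p.primeCompl R
  have hW : Disjoint (W : Set S) QA := Set.disjoint_left.2 fun s hs hsQ => by
    obtain ⟨r, hr, rfl⟩ := hs
    exact hr ((hQA r).1 hsQ)
  let Q : Ideal P := QA.map (algebraMap S P)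
  have : Q.IsPrime := IsLocalization.isPrime_of_isPrime_disjoint W P QA inferInstance hW
  have hQ : ∀ s : S, algebraMap S P s ∈ Q ↔ φ s ∉ q.primeCompl := fun s => by
    rw [← Ideal.mem_comap]
    show s ∈ Ideal.under S Q ↔ _
    rw [IsLocalization.under_map_of_isPrime_disjoint W P (inferInstance : QA.IsPrime) hW]
    simp [QA, Ideal.primeCompl]
  let I : Ideal S := p.map (algebraMap A S)
  have hI : (IsLocalRing.maximalIdeal R).map (MvPolynomial.C : R →+* P) = I.map (algebraMap S P) := by
    rw [← IsLocalization.AtPrime.map_eq_maximalIdeal p R, Ideal.map_map, Ideal.map_map]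
    congr 1
    ext r
    simp [P, S]
  have hIle : I ≤ QA := Ideal.map_le_iff_le_comap.2 fun r hr => (hQA r).2 hr
  -- the localised modules
  let MR := LocalizedModule W M
  let NR := LocalizedModule W N
  let fM : M →ₗ[S] MR := LocalizedModule.mkLinearMap W M
  let fN : N →ₗ[S] NR := LocalizedModule.mkLinearMap W N
  let : Module P MR := LocalizedModule.moduleOfIsLocalization (S := W) (T := P) (M := M)
  let : Module P NR := LocalizedModule.moduleOfIsLocalization (S := W) (T := P) (M := N)
  have : IsScalarTower S P MR := inferInstance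
  have : IsScalarTower S P NR := inferInstance
  have : Module.FinitePresentation P MR :=
    FinitePresentation.of_isBaseChange fM (IsLocalizedModule.isBaseChange W P fM)
  have : Module.FinitePresentation P NR :=
    FinitePresentation.of_isBaseChange fN (IsLocalizedModule.isBaseChange W P fN)
  let : Module R NR := Module.compHom NR (MvPolynomial.C : R →+* P)
  have : IsScalarTower R P NR := ⟨fun r x m => by
    show (r • x) • m = (MvPolynomial.C r : P) • x • m
    rw [← mul_smul, MvPolynomial.smul_eq_C_mul]⟩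
  have hAR : ∀ (a : A) (m : NR), a • m = algebraMap A R a • m := fun a m => by
    show a • m = (MvPolynomial.C (algebraMap A R a) : P) • m
    rw [← IsScalarTower.algebraMap_smul S a m, ← IsScalarTower.algebraMap_smul P (algebraMap A S a) m]
    congr 1
    simp [P, S]
  have : IsScalarTower A R NR := IsScalarTower.of_algebraMap_smul fun a m => (hAR a m).symm
  have : IsScalarTower A P NR := IsScalarTower.of_algebraMap_smul fun a m => by
    rw [hAR a m]
    show algebraMap A P a • m = (MvPolynomial.C (algebraMap A R a) : P) • m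
    congr 1
  have : Module.Flat A NR := (FlatModel.flat_localized_iff (R := A) W fN).2 fun J y hy => ⟨1, one_mem _, by
    rw [one_smul]
    exact Module.Flat.lTensor_preserves_injective_linearMap (M := N) J.subtype Subtype.val_injective
      (hy.trans (map_zero _).symm)⟩
  have : Module.Flat R NR := (Module.flat_iff_of_isLocalization (R := A) R p.primeCompl (M := NR)).2 inferInstance
  let uS : M →ₗ[S] N := u.restrictScalars S
  let uA : MR →ₗ[P] NR := (IsLocalizedModule.map W fM fN uS).extendScalarsOfIsLocalization W P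
  have huA : ∀ m, uA (fM m) = fN (u m) := fun m => IsLocalizedModule.map_apply W fM fN uS m
  -- the hypothesis of the criterion
  have hmem : ∀ {X : Type u} [AddCommGroup X] [Module B X] [Module A X] [Module S X] [IsScalarTower A B X]
      [IsScalarTower A S X] (y : X),
      y ∈ I • (⊤ : Submodule S X) ↔ y ∈ p.map (algebraMap A B) • (⊤ : Submodule B X) := fun y =>
    (mem_map_smul_top_iff p y).trans (mem_map_smul_top_iff p y).symm
  have hu : ∀ x : MR, (∃ s ∉ Q, s • uA x ∈ ((IsLocalRing.maximalIdeal R).map MvPolynomial.C : Ideal P) •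
        (⊤ : Submodule P NR)) →
      ∃ s ∉ Q, s • x ∈ ((IsLocalRing.maximalIdeal R).map MvPolynomial.C : Ideal P) • (⊤ : Submodule P MR) := by
    rintro x ⟨s, hs, hsx⟩
    obtain ⟨⟨a, w⟩, haw⟩ := IsLocalizedModule.surj W fM x
    obtain ⟨⟨s₀, w'⟩, hsw⟩ := IsLocalization.surj W s
    have hwu : ∀ w : W, IsUnit (algebraMap S P w) := IsLocalization.map_units P
    rw [hI] at hsx ⊢
    have hs₀ : algebraMap S P s₀ ∉ Q := fun hc => hs <| by
      rw [← hsw] at hc
      exact (Ideal.mul_unit_mem_iff_mem _ (hwu w')).1 hc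
    have h1 : fN (s₀ • u a) ∈ I.map (algebraMap S P) • (⊤ : Submodule P NR) := by
      rw [map_smul, ← huA, ← haw, ← IsScalarTower.algebraMap_smul P s₀, ← hsw, Submonoid.smul_def,
        ← IsScalarTower.algebraMap_smul P (w : S) x, map_smul, smul_smul]
      rw [show s * algebraMap S P w' * algebraMap S P (w : S) = (algebraMap S P w' * algebraMap S P (w : S)) * s by ring,
        mul_smul]
      exact Submodule.smul_mem _ _ hsx
    obtain ⟨t, ⟨r, hr, rfl⟩, ht⟩ := (FlatModel.localized_mem_map_smul_iff W fN I _).1 h1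
    obtain ⟨s', hs', hs'a⟩ := h a ⟨φ (MvPolynomial.C r) * φ s₀, fun hc => by
        rcases (Ideal.IsPrime.mem_or_mem ‹q.IsPrime› hc) with h1 | h1
        · exact hr ((hQA r).1 h1)
        · exact hs₀ ((hQ s₀).2 (fun h2 => h2 h1)),
      by rw [mul_smul]; exact (hmem _).1 ht⟩
    obtain ⟨s₁, rfl⟩ := hφ s'
    refine ⟨algebraMap S P s₁, fun hc => (hQ s₁).1 hc hs', ?_⟩
    have h2 := (FlatModel.localized_mem_map_smul_iff (B := P) W fM I (s₁ • a)).2
      ⟨1, one_mem _, by rw [one_smul]; exact (hmem _).2 hs'a⟩
    rw [map_smul, ← haw, Submonoid.smul_def, smul_comm, ← IsScalarTower.algebraMap_smul P (w : S)] at h2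
    obtain ⟨v, hv⟩ := hwu w
    rw [← hv] at h2
    have h3 := Submodule.smul_mem _ (↑v⁻¹ : P) h2
    rwa [smul_smul, Units.inv_mul, one_smul, ← IsScalarTower.algebraMap_smul P s₁] at h3
  obtain ⟨hinj, hflat⟩ := FlatModel.injective_flat_of_injective_mod_max Q (hI.le.trans (Ideal.map_mono hIle)) uA hu
  refine ⟨fun x hx => ?_, ?_⟩
  · obtain ⟨s, hs, hsx⟩ := hinj (fM x) (by rw [huA, hx, map_zero])
    obtain ⟨⟨s₀, w'⟩, hsw⟩ := IsLocalization.surj W s
    have hs₀ : algebraMap S P s₀ ∉ Q := fun hc => hs <| by
      rw [← hsw] at hc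
      exact (Ideal.mul_unit_mem_iff_mem _ (IsLocalization.map_units P w')).1 hc
    have h1 : fM (s₀ • x) = 0 := by
      rw [map_smul, ← IsScalarTower.algebraMap_smul P s₀, ← hsw, mul_comm, mul_smul, hsx, smul_zero]
    obtain ⟨⟨t, ⟨r, hr, rfl⟩⟩, ht⟩ := (IsLocalizedModule.eq_zero_iff W fM).1 h1
    refine ⟨φ (MvPolynomial.C r) * φ s₀, fun hc => ?_, by rw [mul_smul]; exact ht⟩
    rcases (Ideal.IsPrime.mem_or_mem ‹q.IsPrime› hc) with h1 | h1
    · exact hr ((hQA r).1 h1)
    · exact hs₀ ((hQ s₀).2 (fun h2 => h2 h1))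
  · let L := LocalizedModule Q.primeCompl (NR ⧸ LinearMap.range uA)
    have : Module.Flat R L := hflat
    have : IsScalarTower A R L := IsScalarTower.of_algebraMap_smul fun a m => by
      rw [← IsScalarTower.algebraMap_smul P (algebraMap A R a) m, ← IsScalarTower.algebraMap_smul P a m]
      congr 1
    have : Module.Flat A L := Module.Flat.trans A R L
    obtain ⟨g₁, hg⟩ := exists_quot_localized W fN ((LinearMap.range u).restrictScalars S) (LinearMap.range uA)
      (by rintro _ ⟨m, rfl⟩; exact ⟨fM m, huA m⟩)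
      (by
        rintro _ ⟨z, rfl⟩
        obtain ⟨⟨m, w⟩, hmw⟩ := IsLocalizedModule.surj W fM z
        refine ⟨u m, ⟨m, rfl⟩, w, ?_⟩
        rw [← huA, ← hmw, Submonoid.smul_def]
        show (w : S) • uA z = uA ((w : S) • z)
        rw [← IsScalarTower.algebraMap_smul P (w : S) z, ← IsScalarTower.algebraMap_smul P (w : S) (uA z), map_smul])
      Q QA (by ext s; exact ((hQ s).trans ⟨fun h => by simpa [QA, Ideal.primeCompl] using h, fun h h' => h' h⟩).symm)
    let g : (N ⧸ LinearMap.range u) →ₗ[S] L :=
      g₁ ∘ₗ (Submodule.Quotient.restrictScalarsEquiv S (LinearMap.range u)).symm.toLinearMap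
    have : IsLocalizedModule QA.primeCompl g := IsLocalizedModule.of_linearEquiv_right QA.primeCompl g₁ _
    rw [FlatModel.flat_localized_iff q.primeCompl (LocalizedModule.mkLinearMap q.primeCompl _)]
    intro J y hy
    obtain ⟨s, hs, hsy⟩ := (FlatModel.flat_localized_iff (R := A) QA.primeCompl g).1 ‹Module.Flat A L› J y hy
    refine ⟨φ s, hs, Eq.trans ?_ hsy⟩
    clear hy hsy
    induction y using TensorProduct.induction_on with
    | zero => exact (smul_zero _).trans (smul_zero _).symm
    | tmul m j =>
      obtain ⟨m, rfl⟩ := Submodule.Quotient.mk_surjective _ m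
      rw [smul_tmul', smul_tmul']
      rfl
    | add y z hy hz => rw [smul_add, smul_add, hy, hz]

/-- Injectivity with flat cokernel gives injectivity modulo the prime of the base. -/
theorem modMax_of_injFlat (q : Ideal B) [q.IsPrime] (u : M →ₗ[B] N)
    (hinj : ∀ x, u x = 0 → ∃ s ∉ q, s • x = 0)
    [Module.Flat A (LocalizedModule q.primeCompl (N ⧸ LinearMap.range u))] (x : M)
    (hx : ∃ s ∉ q, s • u x ∈ (q.comap (algebraMap A B)).map (algebraMap A B) • (⊤ : Submodule B N)) :
    ∃ s ∉ q, s • x ∈ (q.comap (algebraMap A B)).map (algebraMap A B) • (⊤ : Submodule B M) := by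
  let p : Ideal A := q.comap (algebraMap A B)
  let W := q.primeCompl
  let f : LocalizedModule W M →ₗ[A] LocalizedModule W N := (LocalizedModule.map W u).restrictScalars A
  let g : LocalizedModule W N →ₗ[A] LocalizedModule W (N ⧸ LinearMap.range u) :=
    (LocalizedModule.map W (LinearMap.range u).mkQ).restrictScalars A
  have hex : Function.Exact f g := LocalizedModule.map_exact W u _ (LinearMap.exact_map_mkQ_range u)
  have hg : Function.Surjective g := LocalizedModule.map_surjective W _ (Submodule.mkQ_surjective _)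
  have hf : Function.Injective f := by
    rw [injective_iff_map_eq_zero]
    intro z
    induction z using LocalizedModule.induction_on with
    | h m s =>
      intro hz
      rw [LinearMap.restrictScalars_apply, LocalizedModule.map_mk,
        ← LocalizedModule.zero_mk (S := W) s, LocalizedModule.mk_eq] at hz
      obtain ⟨t, ht⟩ := hz
      rw [Submonoid.smul_def, Submonoid.smul_def, Submonoid.smul_def, Submonoid.smul_def, smul_zero,
        ← map_smul, ← map_smul, smul_smul] at ht
      obtain ⟨t', ht', ht''⟩ := hinj _ (by rwa [smul_zero] at ht)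
      rw [← LocalizedModule.zero_mk (S := W) s, LocalizedModule.mk_eq]
      refine ⟨⟨t' * t.1, W.mul_mem ht' t.2⟩, ?_⟩
      rw [smul_zero, smul_zero, Submonoid.smul_def, Submonoid.smul_def]
      show (t' * (t : B)) • (s : B) • m = 0
      rw [smul_smul, mul_assoc, mul_smul]
      exact ht''
  have hinj' := LinearMap.lTensor_injective_of_exact_of_flat g hg f hf hex (A ⧸ p)
  have hux : f (LocalizedModule.mkLinearMap W M x) ∈ p • (⊤ : Submodule A (LocalizedModule W N)) := by
    obtain ⟨s, hs, hsx⟩ := hx
    have h1 := (FlatModel.localized_mem_map_smul_iff W (LocalizedModule.mkLinearMap W N)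
      (B := Localization W) (p.map (algebraMap A B)) (u x)).2 ⟨s, hs, hsx⟩
    rw [Ideal.map_map, ← IsScalarTower.algebraMap_eq, mem_map_smul_top_iff] at h1
    rwa [LinearMap.restrictScalars_apply, LocalizedModule.mkLinearMap_apply, LocalizedModule.map_mk]
  have hx' : LocalizedModule.mkLinearMap W M x ∈ p • (⊤ : Submodule A (LocalizedModule W M)) := by
    rw [← S0393.one_tmul_eq_zero_iff]
    apply hinj'
    rw [LinearMap.lTensor_tmul, map_zero, S0393.one_tmul_eq_zero_iff]
    exact hux
  refine (FlatModel.localized_mem_map_smul_iff W (LocalizedModule.mkLinearMap W M)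
    (B := Localization W) (p.map (algebraMap A B)) x).1 ?_
  rw [Ideal.map_map, ← IsScalarTower.algebraMap_eq, mem_map_smul_top_iff]
  exact hx'

omit [Module A M] [IsScalarTower A B M] in
/-- The kernel of a map to a finitely presented module with flat cokernel is finitely generated. -/
theorem fg_ker_of_flat [Algebra.FinitePresentation A B] [Module.Finite B M] [Module.FinitePresentation B N]
    (u : M →ₗ[B] N) [Module.Flat A (N ⧸ LinearMap.range u)] : (LinearMap.ker u).FG := by
  obtain ⟨b, πM, hπM⟩ := Module.Finite.exists_fin' B M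
  have : Module.FinitePresentation B (N ⧸ LinearMap.range u) :=
    Module.finitePresentation_of_surjective _ (Submodule.mkQ_surjective _) (by
      rw [Submodule.ker_mkQ, LinearMap.range_eq_map]
      exact (Module.Finite.fg_top).map u)
  obtain ⟨a, π, hπ⟩ := Module.Finite.exists_fin' B N
  let C := LinearMap.range u
  have := FlatSyz5.fp_ker (A := A) (C.mkQ ∘ₗ π) ((Submodule.mkQ_surjective _).comp hπ)
  let ρ : LinearMap.ker (C.mkQ ∘ₗ π) →ₗ[B] C :=
    (π ∘ₗ (LinearMap.ker (C.mkQ ∘ₗ π)).subtype).codRestrict C fun x => (Submodule.Quotient.mk_eq_zero C).1 x.2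
  have hρ : Function.Surjective ρ := fun y => by
    obtain ⟨v, hv⟩ := hπ y.1
    exact ⟨⟨v, show C.mkQ (π v) = 0 by rw [hv]; exact (Submodule.Quotient.mk_eq_zero C).2 y.2⟩, Subtype.ext hv⟩
  have hρk : (LinearMap.ker ρ).FG := by
    refine Submodule.fg_of_fg_map_injective _ (Submodule.injective_subtype _) ?_
    have h1 : (LinearMap.ker ρ).map (LinearMap.ker (C.mkQ ∘ₗ π)).subtype = LinearMap.ker π := by
      ext x
      refine ⟨?_, fun hx => ⟨⟨x, show C.mkQ (π x) = 0 by rw [LinearMap.mem_ker.1 hx, map_zero]⟩, Subtype.ext hx, rfl⟩⟩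
      rintro ⟨y, hy, rfl⟩
      exact congrArg Subtype.val hy
    exact h1 ▸ Module.FinitePresentation.fg_ker π hπ
  have : Module.FinitePresentation B C := Module.finitePresentation_of_surjective ρ hρ hρk
  have h := Module.FinitePresentation.fg_ker u.rangeRestrict (LinearMap.surjective_rangeRestrict _)
  rwa [LinearMap.ker_rangeRestrict] at h

end Groth.Agent.FlatPt5
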