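import Groth.Agent.FlatPt5.Sch

/-!
# The criterion by injectivity on the fibre and openness
-/

set_option autoImplicit false
set_option backward.isDefEq.respectTransparency false
set_option backward.isDefEq.respectTransparency.types false

universe u

open CategoryTheory CategoryTheory.Limits AlgebraicGeometry TopologicalSpace Opposite

namespace Groth.Agent.FlatPt5

variable {X Y : Scheme.{u}} (f : X ⟶ Y) [LocallyOfFinitePresentation f] {M N : X.Modules}

theorem injFlat_iff_modMax (hM : Coh.IsQCoh M) (hMfp : CohB1.IsFP M) (hN : Coh.IsQCoh N) (hNfp : CohB1.IsFP N)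
    (u : M ⟶ N) (x : X) (hflat : FlatMod.IsFlatOverAt f N x) :
    letI J : Ideal ↑(X.presheaf.stalk x) :=
      Ideal.map (f.stalkMap x).hom (IsLocalRing.maximalIdeal ↑(Y.presheaf.stalk (f x)))
    (Function.Injective (stalkOf u x) ∧ FlatMod.IsFlatOverAt f (cokernel u) x) ↔
      ∀ m : ↑(M.presheaf.stalk x),
        stalkOf u x m ∈ (J • (⊤ : Submodule ↑(X.presheaf.stalk x) ↑(N.presheaf.stalk x))) →
          m ∈ (J • (⊤ : Submodule ↑(X.presheaf.stalk x) ↑(M.presheaf.stalk x))) := by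
  obtain ⟨V, U, hV, hU, hle, -, hx, hfl⟩ :=
    exists_affine_flat_nhd f hN hNfp hflat (U := ⊤) (Opens.mem_top x)
  letI : Algebra Γ(Y, V) Γ(X, U) := (f.appLE V U hle).hom.toAlgebra
  letI : Module Γ(Y, V) Γ(N, U) := Module.compHom _ (f.appLE V U hle).hom
  haveI : IsScalarTower Γ(Y, V) Γ(X, U) Γ(N, U) := IsScalarTower.of_algebraMap_smul fun _ _ => rfl
  letI : Module Γ(Y, V) Γ(M, U) := Module.compHom _ (f.appLE V U hle).hom
  haveI : IsScalarTower Γ(Y, V) Γ(X, U) Γ(M, U) := IsScalarTower.of_algebraMap_smul fun _ _ => rfl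
  haveI : Algebra.FinitePresentation Γ(Y, V) Γ(X, U) := f.finitePresentation_appLE hV hU hle
  haveI := QCoh.finitePresentation_of_isFP hMfp hU
  haveI := QCoh.finitePresentation_of_isFP hNfp hU
  haveI : Module.Flat Γ(Y, V) Γ(N, U) := (QCoh.flat_appLE_iff f hN hU hV hle).2 hfl
  rw [flatAt_cokernel_iff f hM hN u hU hV hle hx, injective_stalkOf_iff hM hN u hU hx]
  simp only [germ_eq_zero_iff_prime hM hU hx]
  constructor
  · rintro ⟨hinj, hflatC⟩ m hm
    obtain ⟨a, s, _, hsu, ha⟩ := exists_smul_eq_germ hM hU hx m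
    have h1 := Submodule.smul_mem _ (X.presheaf.germ U x hx s) hm
    rw [← stalkOf_smul, ha, stalkOf_germ, germ_mem_smul_top_iff f hN hU hV hle hx] at h1
    haveI := hflatC
    have h2 := (germ_mem_smul_top_iff f hM hU hV hle hx a).2
      (modMax_of_injFlat (A := Γ(Y, V)) _ (QCoh.appLin u U) hinj a h1)
    rw [← ha] at h2
    obtain ⟨v, hv⟩ := hsu
    rw [← hv] at h2
    have h3 := Submodule.smul_mem _ (↑v⁻¹ : X.presheaf.stalk x) h2
    rwa [smul_smul, Units.inv_mul, one_smul] at h3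
  · intro h
    refine injFlat_of_modMax (A := Γ(Y, V)) _ (QCoh.appLin u U) fun a ha => ?_
    refine (germ_mem_smul_top_iff f hM hU hV hle hx a).1 (h _ ?_)
    rw [stalkOf_germ]
    exact (germ_mem_smul_top_iff f hN hU hV hle hx _).2 ha

theorem exists_nhd_injFlat (hM : Coh.IsQCoh M) (hMft : CohB1.IsFT M) (hN : Coh.IsQCoh N) (hNfp : CohB1.IsFP N)
    (u : M ⟶ N) {x : X} (hinj : Function.Injective (stalkOf u x))
    (hflat : FlatMod.IsFlatOverAt f (cokernel u) x) :
    ∃ W : X.Opens, x ∈ W ∧ ∀ y ∈ W, Function.Injective (stalkOf u y) ∧ FlatMod.IsFlatOverAt f (cokernel u) y := by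
  obtain ⟨V, U, hV, hU, hle, -, hx, hfl⟩ := exists_affine_flat_nhd f (QCoh.isQCoh_cokernel hM hN u)
    (FPEnough.isFP_cokernel hM hMft hN hNfp u) hflat (U := ⊤) (Opens.mem_top x)
  obtain ⟨G, hG⟩ := fg_ker_appLin f hM hMft hN hNfp u hU hV hle hfl
  have hkill : ∀ m ∈ G, ∃ g : Γ(X, U), x ∈ X.basicOpen g ∧ g • m = 0 := fun m hm =>
    (QCoh.germ_eq_zero_iff hM hU hx m).1
      ((injective_stalkOf_iff hM hN u hU hx).1 hinj m
        (show m ∈ LinearMap.ker (QCoh.appLin u U) from hG.le (Submodule.subset_span hm)))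
  choose! g hgx hg0 using hkill
  let s : Γ(X, U) := ∏ m ∈ G, g m
  have hsx : x ∈ X.basicOpen s := by
    rw [Scheme.mem_basicOpen _ _ x hx, map_prod, IsUnit.prod_iff]
    exact fun m hm => (X.mem_basicOpen _ x hx).1 (hgx m hm)
  refine ⟨X.basicOpen s, hsx, fun y hy => ?_⟩
  have hyU : y ∈ U := X.basicOpen_le s hy
  refine ⟨(injective_stalkOf_iff hM hN u hU hyU).2 fun m hm => (QCoh.germ_eq_zero_iff hM hU hyU m).2 ⟨s, hy, ?_⟩,
    hfl y hyU⟩
  have hm' : m ∈ Submodule.span Γ(X, U) (G : Set Γ(M, U)) := hG.ge (show m ∈ LinearMap.ker (QCoh.appLin u U) from hm)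
  induction hm' using Submodule.span_induction with
  | mem z hz =>
    obtain ⟨r, hr⟩ : g z ∣ s := Finset.dvd_prod_of_mem g hz
    rw [hr, mul_comm, mul_smul, hg0 z hz, smul_zero]
  | zero => exact smul_zero s
  | add a b ha hb iha ihb =>
    rw [smul_add, iha (hG.le ha), ihb (hG.le hb), add_zero]
  | smul r a ha iha => rw [smul_comm, iha (hG.le ha), smul_zero]

theorem isOpen_injFlat (hM : Coh.IsQCoh M) (hMft : CohB1.IsFT M) (hN : Coh.IsQCoh N) (hNfp : CohB1.IsFP N)
    (u : M ⟶ N) :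
    IsOpen {x : X | Function.Injective (stalkOf u x) ∧ FlatMod.IsFlatOverAt f (cokernel u) x} := by
  rw [isOpen_iff_forall_mem_open]
  rintro x ⟨h1, h2⟩
  obtain ⟨W, hxW, hW⟩ := exists_nhd_injFlat f hM hMft hN hNfp u h1 h2
  exact ⟨W, hW, W.2, hxW⟩

end Groth.Agent.FlatPt5
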