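import Groth.Agent.FlatPt5.Alg
import Mathlib.RingTheory.Regular.RegularSequence
import Mathlib.RingTheory.LocalRing.ResidueField.Ideal

/-!
# Sequences regular on the fibre of a flat module

For an `A`-algebra `B`, a prime `q` of `B` and a module `M` with `M_q` flat over `A`: a sequence is
weakly regular on the localised fibre module iff it is weakly regular on `M_q` with the successive
quotients flat over `A` at `q`.
-/

set_option autoImplicit false

namespace Groth.Agent.FlatPt5

open TensorProduct RingTheory.Sequence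
open scoped Pointwise

universe u

variable {A B : Type u} [CommRing A] [CommRing B] [Algebra A B]

/-- The criterion by injectivity modulo the prime of the base, with flatness only at the prime. -/
theorem injFlat_of_modMax' [Algebra.FinitePresentation A B] {M N : Type u} [AddCommGroup M] [Module B M]
    [AddCommGroup N] [Module B N] [Module A M] [IsScalarTower A B M] [Module A N] [IsScalarTower A B N]
    [Module.FinitePresentation B M] [Module.FinitePresentation B N] (q : Ideal B) [q.IsPrime]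
    [hflat : Module.Flat A (LocalizedModule q.primeCompl N)] (u : M →ₗ[B] N)
    (h : ∀ x : M, (∃ s ∉ q, s • u x ∈ (q.comap (algebraMap A B)).map (algebraMap A B) • (⊤ : Submodule B N)) →
      ∃ s ∉ q, s • x ∈ (q.comap (algebraMap A B)).map (algebraMap A B) • (⊤ : Submodule B M)) :
    (∀ x, u x = 0 → ∃ s ∉ q, s • x = 0) ∧
      Module.Flat A (LocalizedModule q.primeCompl (N ⧸ LinearMap.range u)) := by
  obtain ⟨g, hg, hgflat⟩ := FlatModel.exists_flat_nhd N q hflat
  let W := Submonoid.powers g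
  let B' := Localization.Away g
  let M' := LocalizedModule W M
  let N' := LocalizedModule W N
  haveI : Module.Flat A N' := hgflat W (Submonoid.mem_powers g)
  haveI : Algebra.FinitePresentation B B' := IsLocalization.Away.finitePresentation g
  haveI : Algebra.FinitePresentation A B' := Algebra.FinitePresentation.trans A B B'
  haveI : Module.FinitePresentation B' M' := inferInstanceAs (Module.FinitePresentation (Localization W) _)
  haveI : Module.FinitePresentation B' N' := inferInstanceAs (Module.FinitePresentation (Localization W) _)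
  let fM : M →ₗ[B] M' := LocalizedModule.mkLinearMap W M
  let fN : N →ₗ[B] N' := LocalizedModule.mkLinearMap W N
  haveI : IsScalarTower A B' M' := IsScalarTower.to₁₃₄ A B B' M'
  haveI : IsScalarTower A B' N' := IsScalarTower.to₁₃₄ A B B' N'
  have hW : Disjoint (W : Set B) q := Set.disjoint_left.2 fun s hs hsq => by
    obtain ⟨k, rfl⟩ := hs
    exact hg (Ideal.IsPrime.mem_of_pow_mem ‹_› k hsq)
  let q' : Ideal B' := q.map (algebraMap B B')
  have : q'.IsPrime := IsLocalization.isPrime_of_isPrime_disjoint W B' q inferInstance hW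
  have hq' : q = q'.comap (algebraMap B B') :=
    (IsLocalization.under_map_of_isPrime_disjoint W B' (inferInstance : q.IsPrime) hW).symm
  let u' : M' →ₗ[B'] N' := LocalizedModule.map W u
  have hu' : ∀ m, u' (fM m) = fN (u m) := fun m => LocalizedModule.map_mk W u m 1
  let p := q.comap (algebraMap A B)
  have hp : q'.comap (algebraMap A B') = p := by
    rw [IsScalarTower.algebraMap_eq A B B', ← Ideal.comap_comap, ← hq']
  have hI : (q'.comap (algebraMap A B')).map (algebraMap A B') =
      (p.map (algebraMap A B)).map (algebraMap B B') := by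
    rw [hp, Ideal.map_map, ← IsScalarTower.algebraMap_eq]
  have hwu : ∀ w : W, IsUnit (algebraMap B B' w) := IsLocalization.map_units B'
  have hnum : ∀ s : B', s ∉ q' → ∃ (s₀ : B) (w : W), s₀ ∉ q ∧ s * algebraMap B B' w = algebraMap B B' s₀ :=
    fun s hs => by
      obtain ⟨⟨s₀, w⟩, hsw⟩ := IsLocalization.surj W s
      exact ⟨s₀, w, fun hc => hs <| (Ideal.mul_unit_mem_iff_mem _ (hwu w)).1
        (hsw.symm ▸ Ideal.mem_map_of_mem _ hc), hsw⟩
  have key := injFlat_of_modMax (A := A) q' u' fun x hx => by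
    obtain ⟨s, hs, hsx⟩ := hx
    obtain ⟨⟨a, w⟩, haw⟩ := IsLocalizedModule.surj W fM x
    obtain ⟨s₀, w', hs₀, hsw⟩ := hnum s hs
    rw [hI] at hsx ⊢
    have h1 : fN (s₀ • u a) ∈ (p.map (algebraMap A B)).map (algebraMap B B') • (⊤ : Submodule B' N') := by
      rw [map_smul, ← hu', ← haw, ← IsScalarTower.algebraMap_smul B' s₀, ← hsw, Submonoid.smul_def,
        ← IsScalarTower.algebraMap_smul B' (w : B) x, map_smul, smul_smul,
        show s * algebraMap B B' w' * algebraMap B B' (w : B) = (algebraMap B B' w' * algebraMap B B' (w : B)) * s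
          by ring, mul_smul]
      exact Submodule.smul_mem _ _ hsx
    obtain ⟨t, ht, hta⟩ := (FlatModel.localized_mem_map_smul_iff W fN _ _).1 h1
    obtain ⟨s₁, hs₁, hs₁a⟩ := h a ⟨t * s₀, fun hc => by
      rcases Ideal.IsPrime.mem_or_mem ‹q.IsPrime› hc with h2 | h2
      · exact Set.disjoint_left.1 hW ht h2
      · exact hs₀ h2, by rw [mul_smul]; exact hta⟩
    refine ⟨algebraMap B B' s₁, fun hc => hs₁ (hq'.ge hc), ?_⟩
    have h2 := (FlatModel.localized_mem_map_smul_iff (B := B') W fM (p.map (algebraMap A B)) (s₁ • a)).2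
      ⟨1, one_mem _, by rw [one_smul]; exact hs₁a⟩
    rw [map_smul, ← haw, Submonoid.smul_def, smul_comm, ← IsScalarTower.algebraMap_smul B' (w : B)] at h2
    obtain ⟨v, hv⟩ := hwu w
    rw [← hv] at h2
    have h3 := Submodule.smul_mem _ (↑v⁻¹ : B') h2
    rwa [smul_smul, Units.inv_mul, one_smul, ← IsScalarTower.algebraMap_smul B' s₁] at h3
  refine ⟨fun x hx => ?_, ?_⟩
  · obtain ⟨s, hs, hsx⟩ := key.1 (fM x) (by rw [hu', hx, map_zero])
    obtain ⟨s₀, w', hs₀, hsw⟩ := hnum s hs
    have h1 : fM (s₀ • x) = 0 := by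
      rw [map_smul, ← IsScalarTower.algebraMap_smul B' s₀, ← hsw, mul_comm, mul_smul, hsx, smul_zero]
    obtain ⟨⟨t, ht⟩, ht0⟩ := (IsLocalizedModule.eq_zero_iff W fM).1 h1
    refine ⟨t * s₀, fun hc => ?_, by rw [mul_smul]; exact ht0⟩
    rcases Ideal.IsPrime.mem_or_mem ‹q.IsPrime› hc with h2 | h2
    · exact Set.disjoint_left.1 hW ht h2
    · exact hs₀ h2
  · obtain ⟨γ, hγ⟩ := exists_quot_localized W fN (LinearMap.range u) (LinearMap.range u')
      (by rintro _ ⟨m, rfl⟩; exact ⟨fM m, hu' m⟩)
      (by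
        rintro _ ⟨z, rfl⟩
        obtain ⟨⟨m, w⟩, hmw⟩ := IsLocalizedModule.surj W fM z
        refine ⟨u m, ⟨m, rfl⟩, w, ?_⟩
        rw [← hu', ← hmw, Submonoid.smul_def, Submonoid.smul_def,
          ← IsScalarTower.algebraMap_smul B' (w : B) z, map_smul, IsScalarTower.algebraMap_smul])
      q' q hq'
    haveI := key.2
    exact Module.Flat.of_linearEquiv ((IsLocalizedModule.iso q.primeCompl γ).restrictScalars A)

variable (q : Ideal B) [q.IsPrime]

/-- Multiplication by `b` is injective at `q`. -/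
def InjAt (b : B) (X : Type u) [AddCommGroup X] [Module B X] : Prop :=
  ∀ x : X, b • x = 0 → ∃ s ∉ q, s • x = 0

theorem isSMulRegular_localized_iff {X L : Type u} [AddCommGroup X] [Module B X] [AddCommGroup L] [Module B L]
    (f : X →ₗ[B] L) [IsLocalizedModule q.primeCompl f] (b : B) : IsSMulRegular L b ↔ InjAt q b X := by
  constructor
  · intro h x hx
    obtain ⟨⟨s, hs⟩, hs0⟩ := (IsLocalizedModule.eq_zero_iff q.primeCompl f).1
      (h (show b • f x = b • (0 : L) by rw [← map_smul, hx, map_zero, smul_zero]))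
    exact ⟨s, hs, hs0⟩
  · intro h
    have h' : ∀ z : L, b • z = 0 → z = 0 := by
      intro z hz
      obtain ⟨⟨x, w⟩, hxw⟩ := IsLocalizedModule.surj q.primeCompl f z
      have h1 : f (b • x) = 0 := by rw [map_smul, ← hxw, smul_comm, hz, smul_zero]
      obtain ⟨⟨s, hs⟩, hs0⟩ := (IsLocalizedModule.eq_zero_iff q.primeCompl f).1 h1
      obtain ⟨t, ht, ht0⟩ := h (s • x) (by rw [smul_comm]; exact hs0)
      have hu := IsLocalizedModule.map_units f (⟨t * s * w.1, mul_mem (mul_mem (show t ∈ q.primeCompl from ht) hs) w.2⟩ : q.primeCompl)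
      refine ((Module.End.isUnit_iff _).1 hu).1 ?_
      show (t * s * w.1) • z = (t * s * w.1) • (0 : L)
      rw [smul_zero, mul_smul, mul_smul, show (w.1 : B) • z = f x from hxw, ← map_smul, ← map_smul, ht0, map_zero]
    exact fun z z' hz => sub_eq_zero.1 (h' _ (by rw [smul_sub]; exact sub_eq_zero.2 hz))

theorem exists_quotSMulTop_localized {X L : Type u} [AddCommGroup X] [Module B X] [AddCommGroup L] [Module B L]
    (f : X →ₗ[B] L) [IsLocalizedModule q.primeCompl f] (b : B) :
    ∃ g : QuotSMulTop b X →ₗ[B] QuotSMulTop b L, IsLocalizedModule q.primeCompl g := by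
  let g : QuotSMulTop b X →ₗ[B] QuotSMulTop b L := Submodule.mapQ _ _ f (by
    intro x hx
    obtain ⟨y, -, rfl⟩ := hx
    exact ⟨f y, trivial, (map_smul f b y).symm⟩)
  have hu := fun s : q.primeCompl => (Module.End.isUnit_iff _).1 (IsLocalizedModule.map_units f s)
  refine ⟨g, ⟨fun s => ?_, fun y => ?_, fun {x₁ x₂} he => ?_⟩⟩
  · rw [Module.End.isUnit_iff]
    constructor
    · intro y₁ y₂ he
      obtain ⟨z₁, rfl⟩ := Submodule.Quotient.mk_surjective _ y₁
      obtain ⟨z₂, rfl⟩ := Submodule.Quotient.mk_surjective _ y₂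
      obtain ⟨z, -, hz⟩ := (Submodule.Quotient.eq _).1 (show Submodule.Quotient.mk ((s : B) • z₁) =
        (Submodule.Quotient.mk ((s : B) • z₂) : QuotSMulTop b L) from he)
      obtain ⟨z', hz'⟩ := (hu s).2 z
      refine (Submodule.Quotient.eq _).2 ⟨z', trivial, (hu s).1 ?_⟩
      show (s : B) • b • z' = (s : B) • (z₁ - z₂)
      rw [smul_comm, show (s : B) • z' = z from hz', smul_sub]
      exact hz
    · intro y
      obtain ⟨z, rfl⟩ := Submodule.Quotient.mk_surjective _ y
      obtain ⟨z', hz'⟩ := (hu s).2 z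
      exact ⟨Submodule.Quotient.mk z', congrArg Submodule.Quotient.mk hz'⟩
  · obtain ⟨z, rfl⟩ := Submodule.Quotient.mk_surjective _ y
    obtain ⟨⟨x, s⟩, hxs⟩ := IsLocalizedModule.surj q.primeCompl f z
    exact ⟨(Submodule.Quotient.mk x, s), congrArg Submodule.Quotient.mk hxs⟩
  · obtain ⟨a₁, rfl⟩ := Submodule.Quotient.mk_surjective _ x₁
    obtain ⟨a₂, rfl⟩ := Submodule.Quotient.mk_surjective _ x₂
    obtain ⟨z, -, hz⟩ := (Submodule.Quotient.eq _).1 (show Submodule.Quotient.mk (f a₁) =
      (Submodule.Quotient.mk (f a₂) : QuotSMulTop b L) from he)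
    obtain ⟨⟨x, s⟩, hxs⟩ := IsLocalizedModule.surj q.primeCompl f z
    have h1 : f ((s : B) • (a₁ - a₂)) = f (b • x) := by
      rw [map_smul, map_sub, map_smul, ← hxs, Submonoid.smul_def, smul_comm b]
      exact congrArg _ hz.symm
    obtain ⟨t, ht⟩ := IsLocalizedModule.exists_of_eq (S := q.primeCompl) h1
    refine ⟨⟨(t : B) * s, mul_mem t.2 s.2⟩, ?_⟩
    rw [Submonoid.smul_def, Submonoid.smul_def, ← Submodule.Quotient.mk_smul, ← Submodule.Quotient.mk_smul,
      Submodule.Quotient.eq, ← smul_sub]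
    refine ⟨(t : B) • x, trivial, ?_⟩
    show b • (t : B) • x = ((t : B) * s) • (a₁ - a₂)
    rw [smul_comm, mul_smul]
    exact ht.symm

/-- Weak regularity on the localisation at `q`. -/
def WRAt (bs : List B) (X : Type u) [AddCommGroup X] [Module B X] : Prop :=
  IsWeaklyRegular (LocalizedModule q.primeCompl X) bs

theorem wrAt_iff {X L : Type u} [AddCommGroup X] [Module B X] [AddCommGroup L] [Module B L]
    (f : X →ₗ[B] L) [IsLocalizedModule q.primeCompl f] (bs : List B) : WRAt q bs X ↔ IsWeaklyRegular L bs :=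
  (IsLocalizedModule.iso q.primeCompl f).isWeaklyRegular_congr bs

theorem wrAt_nil (X : Type u) [AddCommGroup X] [Module B X] : WRAt q ([] : List B) X := IsWeaklyRegular.nil B _

theorem wrAt_congr {X X' : Type u} [AddCommGroup X] [Module B X] [AddCommGroup X'] [Module B X'] (e : X ≃ₗ[B] X')
    (bs : List B) : WRAt q bs X ↔ WRAt q bs X' := by
  have : IsLocalizedModule q.primeCompl (LocalizedModule.mkLinearMap q.primeCompl X' ∘ₗ e.toLinearMap) :=
    IsLocalizedModule.of_linearEquiv_right q.primeCompl _ _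
  exact (wrAt_iff q (LocalizedModule.mkLinearMap q.primeCompl X' ∘ₗ e.toLinearMap) bs).trans Iff.rfl

theorem wrAt_cons (b : B) (bs : List B) (X : Type u) [AddCommGroup X] [Module B X] :
    WRAt q (b :: bs) X ↔ InjAt q b X ∧ WRAt q bs (QuotSMulTop b X) := by
  obtain ⟨g, hg⟩ := exists_quotSMulTop_localized q (LocalizedModule.mkLinearMap q.primeCompl X) b
  rw [WRAt, isWeaklyRegular_cons_iff, isSMulRegular_localized_iff q (LocalizedModule.mkLinearMap q.primeCompl X) b,
    wrAt_iff q g bs]

variable {M : Type u} [AddCommGroup M] [Module B M]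

/-- The fibre module at the prime of the base. -/
abbrev fibMod (A : Type u) [CommRing A] [Algebra A B] (M : Type u) [AddCommGroup M] [Module B M] : Type u :=
  M ⧸ (q.comap (algebraMap A B)).map (algebraMap A B) • (⊤ : Submodule B M)

theorem smul_top_eq_range (b : B) : (b • ⊤ : Submodule B M) = LinearMap.range (LinearMap.lsmul B M b) := by
  ext x
  exact ⟨fun ⟨y, _, hy⟩ => ⟨y, hy⟩, fun ⟨y, hy⟩ => ⟨y, trivial, hy⟩⟩

/-- Reducing the fibre module modulo an element. -/
noncomputable def fibQuotEquiv (b : B) : QuotSMulTop b (fibMod q A M) ≃ₗ[B] fibMod q A (QuotSMulTop b M) :=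
  let J : Submodule B M := (q.comap (algebraMap A B)).map (algebraMap A B) • ⊤
  (Submodule.quotEquivOfEq _ _ (by
    rw [Submodule.map_pointwise_smul, Submodule.map_top, Submodule.range_mkQ] :
      (b • ⊤ : Submodule B (M ⧸ J)) = (b • ⊤ : Submodule B M).map J.mkQ)).trans <|
  (Submodule.quotientQuotientEquivQuotientSup J (b • ⊤)).trans <|
  (Submodule.quotEquivOfEq _ _ (sup_comm _ _)).trans <|
  (Submodule.quotientQuotientEquivQuotientSup (b • ⊤) J).symm.trans <|
  Submodule.quotEquivOfEq _ _ (by rw [Submodule.map_smul'', Submodule.map_top, Submodule.range_mkQ])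

theorem injAt_fib_iff (b : B) :
    InjAt q b (fibMod q A M) ↔ ∀ x : M,
      (∃ s ∉ q, s • LinearMap.lsmul B M b x ∈ (q.comap (algebraMap A B)).map (algebraMap A B) • (⊤ : Submodule B M)) →
      ∃ s ∉ q, s • x ∈ (q.comap (algebraMap A B)).map (algebraMap A B) • (⊤ : Submodule B M) := by
  constructor
  · rintro h x ⟨s, hs, hsx⟩
    obtain ⟨t, ht, ht0⟩ := h (Submodule.Quotient.mk (s • x)) (by
      rw [← Submodule.Quotient.mk_smul, Submodule.Quotient.mk_eq_zero, smul_comm]; exact hsx)
    refine ⟨t * s, fun hc => (Ideal.IsPrime.mem_or_mem ‹q.IsPrime› hc).elim ht hs, ?_⟩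
    rwa [← Submodule.Quotient.mk_smul, Submodule.Quotient.mk_eq_zero, ← mul_smul] at ht0
  · intro h y hy
    obtain ⟨x, rfl⟩ := Submodule.Quotient.mk_surjective _ y
    rw [← Submodule.Quotient.mk_smul, Submodule.Quotient.mk_eq_zero] at hy
    obtain ⟨s, hs, hsx⟩ := h x ⟨1, fun h1 => Ideal.IsPrime.ne_top ‹q.IsPrime› ((Ideal.eq_top_iff_one _).2 h1),
      by rw [one_smul]; exact hy⟩
    exact ⟨s, hs, by rw [← Submodule.Quotient.mk_smul, Submodule.Quotient.mk_eq_zero]; exact hsx⟩

theorem fp_quotSMulTop [Module.FinitePresentation B M] (b : B) : Module.FinitePresentation B (QuotSMulTop b M) :=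
  Module.finitePresentation_of_surjective (Submodule.mkQ (b • ⊤)) (Submodule.mkQ_surjective _) (by
    rw [Submodule.ker_mkQ, smul_top_eq_range, LinearMap.range_eq_map]
    exact Module.Finite.fg_top.map _)

variable [Module A M] [IsScalarTower A B M]

theorem flat_localized_congr {X X' : Type u} [AddCommGroup X] [Module B X] [Module A X] [IsScalarTower A B X]
    [AddCommGroup X'] [Module B X'] [Module A X'] [IsScalarTower A B X'] (e : X ≃ₗ[B] X')
    [Module.Flat A (LocalizedModule q.primeCompl X')] : Module.Flat A (LocalizedModule q.primeCompl X) := by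
  have : IsLocalizedModule q.primeCompl (LocalizedModule.mkLinearMap q.primeCompl X' ∘ₗ e.toLinearMap) :=
    IsLocalizedModule.of_linearEquiv_right q.primeCompl _ _
  exact Module.Flat.of_linearEquiv ((IsLocalizedModule.iso q.primeCompl
    (LocalizedModule.mkLinearMap q.primeCompl X' ∘ₗ e.toLinearMap)).restrictScalars A)

/-- Regularity on the fibre gives regularity and flat quotients. -/
theorem wrAt_of_fib [Algebra.FinitePresentation A B] (bs : List B) :
    ∀ {M : Type u} [AddCommGroup M] [Module B M] [Module A M] [IsScalarTower A B M] [Module.FinitePresentation B M]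
      [Module.Flat A (LocalizedModule q.primeCompl M)], WRAt q bs (fibMod q A M) →
      WRAt q bs M ∧ ∀ i ≤ bs.length, Module.Flat A
        (LocalizedModule q.primeCompl (M ⧸ (Ideal.ofList (bs.take i) • (⊤ : Submodule B M)))) := by
  induction bs with
  | nil =>
    intro M _ _ _ _ _ _ _
    refine ⟨wrAt_nil q M, fun i _ => ?_⟩
    exact flat_localized_congr q (Submodule.quotEquivOfEqBot _ (by simp))
  | cons b bs ih =>
    intro M _ _ _ _ _ _ h
    obtain ⟨hb, hrest⟩ := (wrAt_cons q b bs _).1 h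
    obtain ⟨hinj, hflat⟩ := injFlat_of_modMax' (A := A) q (LinearMap.lsmul B M b) ((injAt_fib_iff q b).1 hb)
    haveI := hflat
    haveI : Module.Flat A (LocalizedModule q.primeCompl (QuotSMulTop b M)) :=
      flat_localized_congr q (Submodule.quotEquivOfEq _ _ (smul_top_eq_range b))
    haveI := fp_quotSMulTop (M := M) b
    obtain ⟨hw, hfl⟩ := ih ((wrAt_congr q (fibQuotEquiv q b) bs).1 hrest)
    refine ⟨(wrAt_cons q b bs M).2 ⟨hinj, hw⟩, fun i hi => ?_⟩
    rcases i with _ | i
    · exact flat_localized_congr q (Submodule.quotEquivOfEqBot _ (by simp))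
    · haveI := hfl i (Nat.le_of_succ_le_succ hi)
      exact flat_localized_congr q (Submodule.quotOfListConsSMulTopEquivQuotSMulTopInner M b (bs.take i))

/-- Over a noetherian algebra, regularity on the fibres of a flat module is an open condition. -/
theorem exists_nhd_wrAt_fib [Algebra.FinitePresentation A B] [IsNoetherianRing B] (bs : List B) :
    ∀ {M : Type u} [AddCommGroup M] [Module B M] [Module A M] [IsScalarTower A B M] [Module.FinitePresentation B M]
      [Module.Flat A (LocalizedModule q.primeCompl M)], WRAt q bs (fibMod q A M) →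
      ∃ g ∉ q, ∀ (q' : Ideal B) [q'.IsPrime], g ∉ q' → WRAt q' bs (fibMod q' A M) := by
  classical
  induction bs with
  | nil =>
    intro M _ _ _ _ _ _ _
    exact ⟨1, fun h => Ideal.IsPrime.ne_top ‹q.IsPrime› ((Ideal.eq_top_iff_one _).2 h), fun q' _ _ => wrAt_nil q' _⟩
  | cons b bs ih =>
    intro M _ _ _ _ _ _ h
    obtain ⟨hb, hrest⟩ := (wrAt_cons q b bs _).1 h
    obtain ⟨hinj, hflat⟩ := injFlat_of_modMax' (A := A) q (LinearMap.lsmul B M b) ((injAt_fib_iff q b).1 hb)
    haveI := hflat
    haveI : Module.Flat A (LocalizedModule q.primeCompl (QuotSMulTop b M)) :=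
      flat_localized_congr q (Submodule.quotEquivOfEq _ _ (smul_top_eq_range b))
    haveI := fp_quotSMulTop (M := M) b
    obtain ⟨g₂, hg₂, hrest'⟩ := ih ((wrAt_congr q (fibQuotEquiv q b) bs).1 hrest)
    obtain ⟨g₁, hg₁, hg₁flat⟩ := FlatModel.exists_flat_nhd (R := A) (QuotSMulTop b M) q inferInstance
    obtain ⟨G, hG⟩ := IsNoetherian.noetherian (LinearMap.ker (LinearMap.lsmul B M b))
    have hk : ∀ m ∈ G, ∃ s ∉ q, s • m = 0 := fun m hm =>
      hinj m (LinearMap.mem_ker.1 (hG.le (Submodule.subset_span hm)))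
    choose! s hs hs0 using hk
    let g₀ := ∏ m ∈ G, s m
    have hg₀ : g₀ ∉ q := fun hc => by
      obtain ⟨m, hm, hmq⟩ := (Ideal.IsPrime.prod_mem_iff (hp := ‹q.IsPrime›)).1 hc
      exact hs m hm hmq
    refine ⟨g₀ * g₁ * g₂, fun hc => ?_, fun q' _ hq' => ?_⟩
    · rcases Ideal.IsPrime.mem_or_mem ‹q.IsPrime› hc with h1 | h1
      · exact (Ideal.IsPrime.mem_or_mem ‹q.IsPrime› h1).elim hg₀ hg₁
      · exact hg₂ h1
    have h0 : g₀ ∉ q' := fun h => hq' (Ideal.mul_mem_right _ _ (Ideal.mul_mem_right _ _ h))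
    have h1 : g₁ ∉ q' := fun h => hq' (Ideal.mul_mem_right _ _ (Ideal.mul_mem_left _ _ h))
    have h2 : g₂ ∉ q' := fun h => hq' (Ideal.mul_mem_left _ _ h)
    haveI : Module.Flat A (LocalizedModule q'.primeCompl (QuotSMulTop b M)) := hg₁flat _ h1
    haveI : Module.Flat A (LocalizedModule q'.primeCompl (M ⧸ LinearMap.range (LinearMap.lsmul B M b))) :=
      flat_localized_congr q' (Submodule.quotEquivOfEq _ _ (smul_top_eq_range b).symm)
    have hinj' : ∀ x, LinearMap.lsmul B M b x = 0 → ∃ s ∉ q', s • x = 0 := fun x hx => by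
      refine ⟨g₀, h0, ?_⟩
      have hx' : x ∈ Submodule.span B (G : Set M) := hG.ge (LinearMap.mem_ker.2 hx)
      clear hx
      induction hx' using Submodule.span_induction with
      | mem z hz =>
        obtain ⟨r, hr⟩ : s z ∣ g₀ := Finset.dvd_prod_of_mem s hz
        rw [hr, mul_comm, mul_smul, hs0 z hz, smul_zero]
      | zero => exact smul_zero _
      | add a c _ _ iha ihc => rw [smul_add, iha, ihc, add_zero]
      | smul r a _ iha => rw [smul_comm, iha, smul_zero]
    exact (wrAt_cons q' b bs _).2 ⟨(injAt_fib_iff q' b).2 fun x hx => modMax_of_injFlat q' _ hinj' x hx,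
      (wrAt_congr q' (fibQuotEquiv q' b) bs).2 (hrest' q' h2)⟩

theorem exists_fibMod_localized :
    ∃ φ : fibMod q A M →ₗ[B] LocalizedModule q.primeCompl (M ⊗[A] (q.comap (algebraMap A B)).ResidueField),
      IsLocalizedModule q.primeCompl φ := by
  let p := q.comap (algebraMap A B)
  let K := p.ResidueField
  let g₀ : M →ₗ[B] M ⊗[A] K :=
    { toFun := fun m => m ⊗ₜ 1
      map_add' := fun a b => add_tmul a b 1
      map_smul' := fun b m => rfl }
  have hg₀ : p.map (algebraMap A B) • (⊤ : Submodule B M) ≤ LinearMap.ker g₀ := fun x hx => by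
    rw [mem_map_smul_top_iff] at hx
    induction hx using Submodule.smul_induction_on' with
    | smul a ha m _ =>
      show (a • m) ⊗ₜ[A] (1 : K) = 0
      rw [smul_tmul, Algebra.smul_def, mul_one, Ideal.algebraMap_residueField_eq_zero.2 ha, tmul_zero]
    | add y _ z _ hy hz => exact add_mem hy hz
  let g := (p.map (algebraMap A B) • (⊤ : Submodule B M)).liftQ g₀ hg₀
  let m := LocalizedModule.mkLinearMap q.primeCompl (M ⊗[A] K)
  have hW : ∀ a : A, a ∉ p → algebraMap A B a ∈ q.primeCompl := fun a ha h => ha h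
  have hsurj : ∀ z : M ⊗[A] K, ∃ a ∉ p, ∃ x, algebraMap A B a • z = g x := by
    intro z
    induction z using TensorProduct.induction_on with
    | zero => exact ⟨1, fun h => Ideal.IsPrime.ne_top (Ideal.IsPrime.comap (algebraMap A B)) ((Ideal.eq_top_iff_one _).2 h),
        0, by rw [smul_zero, map_zero]⟩
    | tmul n k =>
      obtain ⟨⟨x, y⟩, hxy⟩ := IsLocalization.surj (nonZeroDivisors (A ⧸ p)) k
      obtain ⟨x, rfl⟩ := Ideal.Quotient.mk_surjective x
      obtain ⟨a, ha⟩ := Ideal.Quotient.mk_surjective (y : A ⧸ p)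
      refine ⟨a, fun hap => nonZeroDivisors.ne_zero y.2 (by rw [← ha, Ideal.Quotient.eq_zero_iff_mem]; exact hap),
        Submodule.Quotient.mk (x • n), ?_⟩
      show algebraMap A B a • (n ⊗ₜ[A] k) = (x • n) ⊗ₜ[A] (1 : K)
      rw [algebraMap_smul, ← tmul_smul, smul_tmul]
      congr 1
      rw [Algebra.smul_def, Algebra.smul_def, mul_one, mul_comm]
      simp only [← ha] at hxy
      exact hxy
    | add z z' hz hz' =>
      obtain ⟨a, ha, x, hx⟩ := hz
      obtain ⟨a', ha', x', hx'⟩ := hz'
      refine ⟨a * a', fun h => (Ideal.IsPrime.mem_or_mem (Ideal.IsPrime.comap (algebraMap A B)) h).elim ha ha',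
        algebraMap A B a' • x + algebraMap A B a • x', ?_⟩
      rw [map_mul, map_add, map_smul, map_smul, ← hx, ← hx', smul_add, smul_smul, smul_smul,
        mul_comm (algebraMap A B a')]
  refine ⟨m ∘ₗ g, ⟨IsLocalizedModule.map_units m, fun y => ?_, fun {x₁ x₂} he => ?_⟩⟩
  · obtain ⟨⟨z, s⟩, hzs⟩ := IsLocalizedModule.surj q.primeCompl m y
    obtain ⟨a, ha, x, hx⟩ := hsurj z
    refine ⟨(x, ⟨algebraMap A B a * s.1, mul_mem (hW a ha) s.2⟩), ?_⟩
    show (algebraMap A B a * s.1) • y = m (g x)
    rw [mul_smul, ← Submonoid.smul_def, hzs, ← map_smul, hx]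
  · obtain ⟨s, hs⟩ := IsLocalizedModule.exists_of_eq (S := q.primeCompl)
      (show m (g x₁) = m (g x₂) from he)
    rw [Submonoid.smul_def, Submonoid.smul_def, ← map_smul, ← map_smul] at hs
    obtain ⟨d, hd⟩ := Submodule.Quotient.mk_surjective _ ((s : B) • x₁ - (s : B) • x₂)
    have h0 : d ⊗ₜ[A] (1 : K) = 0 := by
      have : g (Submodule.Quotient.mk d) = 0 := by rw [hd, map_sub, hs, sub_self]
      exact this
    let ι : (A ⧸ p) →ₗ[A] K := (IsScalarTower.toAlgHom A (A ⧸ p) K).toLinearMap
    haveI : IsLocalizedModule p.primeCompl ι := by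
      refine ⟨fun a => ?_, fun y => ?_, fun {y₁ y₂} h => ⟨1, ?_⟩⟩
      · rw [Module.End.isUnit_iff]
        have hne : algebraMap A K a.1 ≠ 0 := fun h => a.2 (Ideal.algebraMap_residueField_eq_zero.1 h)
        refine ⟨fun z z' h => mul_left_cancel₀ hne ?_, fun z => ⟨(algebraMap A K a.1)⁻¹ * z, ?_⟩⟩
        · rw [← Algebra.smul_def, ← Algebra.smul_def]; exact h
        · show a.1 • ((algebraMap A K a.1)⁻¹ * z) = z
          rw [Algebra.smul_def, ← mul_assoc, mul_inv_cancel₀ hne, one_mul]
      · obtain ⟨⟨x, w⟩, hxw⟩ := IsLocalization.surj (nonZeroDivisors (A ⧸ p)) y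
        obtain ⟨a, ha⟩ := Ideal.Quotient.mk_surjective (w : A ⧸ p)
        refine ⟨(x, ⟨a, fun hap => nonZeroDivisors.ne_zero w.2 (by rw [← ha, Ideal.Quotient.eq_zero_iff_mem]; exact hap)⟩), ?_⟩
        show a • y = algebraMap (A ⧸ p) K x
        rw [← hxw]
        simp only [← ha]
        rw [Algebra.smul_def, mul_comm, IsScalarTower.algebraMap_apply A (A ⧸ p) K, Ideal.Quotient.algebraMap_eq]
      · rw [one_smul, one_smul]
        exact IsFractionRing.injective (A ⧸ p) K h
    have h1 : AlgebraTensorModule.rTensor A M ι ((1 : A ⧸ p) ⊗ₜ d) = 0 := by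
      show ι 1 ⊗ₜ[A] d = 0
      rw [show ι 1 = 1 from map_one (algebraMap (A ⧸ p) K)]
      exact (TensorProduct.comm A M K).map_eq_zero_iff.2 h0
    obtain ⟨a, ha⟩ := (IsLocalizedModule.eq_zero_iff p.primeCompl (AlgebraTensorModule.rTensor A M ι)).1 h1
    have h2 : (a : A) • d ∈ p • (⊤ : Submodule A M) := by
      rw [← S0393.one_tmul_eq_zero_iff, tmul_smul]; exact ha
    refine ⟨⟨algebraMap A B a * s, mul_mem (hW _ a.2) s.2⟩, sub_eq_zero.1 ?_⟩
    rw [Submonoid.smul_def, Submonoid.smul_def]
    show (algebraMap A B a * (s : B)) • x₁ - (algebraMap A B a * (s : B)) • x₂ = 0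
    rw [mul_smul, mul_smul, ← smul_sub, ← hd, ← Submodule.Quotient.mk_smul, Submodule.Quotient.mk_eq_zero,
      mem_map_smul_top_iff, algebraMap_smul]
    exact h2

end Groth.Agent.FlatPt5
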