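import Groth.Agent.FlatPt5.Alg
import Groth.Agent.QCoh.FlatOver
import Groth.Agent.FPEnough.Descend
import Groth.Agent.S4863

/-!
# Injectivity of a stalk map and flatness of the cokernel, on affine charts
-/

set_option autoImplicit false
set_option backward.isDefEq.respectTransparency false
set_option backward.isDefEq.respectTransparency.types false

universe u

open CategoryTheory CategoryTheory.Limits AlgebraicGeometry TopologicalSpace Opposite

namespace Groth.Agent.FlatPt5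

variable {X Y : Scheme.{u}} {M N : X.Modules} {U : X.Opens} {x : X}

/-- The map on stalks. -/
noncomputable abbrev stalkOf (u : M ⟶ N) (x : X) : M.presheaf.stalk x ⟶ N.presheaf.stalk x :=
  (TopCat.Presheaf.stalkFunctor Ab x).map (Scheme.Modules.Hom.mapPresheaf u)

theorem stalkOf_germ (u : M ⟶ N) (hx : x ∈ U) (m : Γ(M, U)) :
    stalkOf u x (M.presheaf.germ U x hx m) = N.presheaf.germ U x hx (u.app U m) :=
  TopCat.Presheaf.stalkFunctor_map_germ_apply U x hx (Scheme.Modules.Hom.mapPresheaf u) m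

theorem stalkOf_smul (u : M ⟶ N) (hx : x ∈ U) (r : Γ(X, U)) (z : M.presheaf.stalk x) :
    stalkOf u x (X.presheaf.germ U x hx r • z) = X.presheaf.germ U x hx r • stalkOf u x z := by
  obtain ⟨P, hxP, m, rfl⟩ := TopCat.Presheaf.exists_germ_eq M.presheaf z
  have hxW : x ∈ U ⊓ P := ⟨hx, hxP⟩
  rw [← X.presheaf.germ_res_apply (homOfLE (inf_le_left : U ⊓ P ≤ U)) x hxW r,
    ← M.presheaf.germ_res_apply (homOfLE (inf_le_right : U ⊓ P ≤ P)) x hxW m, ← QCoh.germ_smul', stalkOf_germ,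
    stalkOf_germ, Scheme.Modules.Hom.app_smul, QCoh.germ_smul']

theorem exists_smul_eq_germ (hM : Coh.IsQCoh M) (hU : IsAffineOpen U) (hx : x ∈ U) (z : M.presheaf.stalk x) :
    ∃ (a : Γ(M, U)) (s : Γ(X, U)), s ∉ (hU.primeIdealOf ⟨x, hx⟩).asIdeal ∧
      IsUnit (X.presheaf.germ U x hx s) ∧ X.presheaf.germ U x hx s • z = M.presheaf.germ U x hx a := by
  letI := QCoh.stalkModule M hx
  haveI := QCoh.isLocalizedModule_germLin hM hU hx
  obtain ⟨⟨a, s⟩, ha⟩ := IsLocalizedModule.surj (hU.primeIdealOf ⟨x, hx⟩).asIdeal.primeCompl (QCoh.germLin M hx) z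
  exact ⟨a, s.1, s.2, (X.mem_basicOpen _ x hx).1 ((QCoh.mem_basicOpen_iff_notMem hU hx _).2 s.2), ha⟩

theorem germ_eq_zero_iff_prime (hM : Coh.IsQCoh M) (hU : IsAffineOpen U) (hx : x ∈ U) (m : Γ(M, U)) :
    M.presheaf.germ U x hx m = 0 ↔ ∃ s ∉ (hU.primeIdealOf ⟨x, hx⟩).asIdeal, s • m = 0 := by
  rw [QCoh.germ_eq_zero_iff hM hU hx]
  exact exists_congr fun f => and_congr_left' (QCoh.mem_basicOpen_iff_notMem hU hx f)

theorem injective_stalkOf_iff (hM : Coh.IsQCoh M) (hN : Coh.IsQCoh N) (u : M ⟶ N) (hU : IsAffineOpen U)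
    (hx : x ∈ U) :
    Function.Injective (stalkOf u x) ↔ ∀ m : Γ(M, U), u.app U m = 0 → M.presheaf.germ U x hx m = 0 := by
  rw [injective_iff_map_eq_zero]
  constructor
  · intro h m hm
    exact h _ (by rw [stalkOf_germ, hm, map_zero])
  · intro h z hz
    obtain ⟨a, s, _, hsu, ha⟩ := exists_smul_eq_germ hM hU hx z
    have h1 : N.presheaf.germ U x hx (u.app U a) = 0 := by
      rw [← stalkOf_germ, ← ha, stalkOf_smul, hz, smul_zero]
    obtain ⟨t, ht, ht0⟩ := (germ_eq_zero_iff_prime hN hU hx _).1 h1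
    have h2 := h (t • a) (by rw [Scheme.Modules.Hom.app_smul, ht0])
    rw [QCoh.germ_smul'] at h2
    have htu : IsUnit (X.presheaf.germ U x hx t) :=
      (X.mem_basicOpen _ x hx).1 ((QCoh.mem_basicOpen_iff_notMem hU hx _).2 ht)
    rw [htu.smul_eq_zero, ← ha, hsu.smul_eq_zero] at h2
    exact h2

theorem ker_appLin_cokernel_π (hM : Coh.IsQCoh M) (hN : Coh.IsQCoh N) (u : M ⟶ N) (hU : IsAffineOpen U) :
    LinearMap.ker (QCoh.appLin (cokernel.π u) U) = LinearMap.range (QCoh.appLin u U) := by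
  refine le_antisymm (fun y hy => ?_) ?_
  · obtain ⟨z, hz⟩ := QCoh.exists_app_f_eq
      (S := ShortComplex.mk (kernel.ι (cokernel.π u)) (cokernel.π u) (kernel.condition _))
      { exact := ShortComplex.exact_kernel _, mono_f := inferInstance, epi_g := inferInstance } U y hy
    obtain ⟨x, hx⟩ := QCoh.app_surjective_of_epi hM
      (QCoh.isQCoh_kernel hN (QCoh.isQCoh_cokernel hM hN u) _) (Abelian.factorThruImage u) hU z
    refine ⟨x, ?_⟩
    refine (congr(($(Abelian.image.fac u)).app U x)).symm.trans ?_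
    exact (congrArg (fun z => (kernel.ι (cokernel.π u)).app U z) hx).trans hz
  · rintro _ ⟨x, rfl⟩
    exact LinearMap.mem_ker.2 congr(($(cokernel.condition u)).app U x)

/-- Sections of a cokernel on an affine open. -/
noncomputable def cokerEquiv (hM : Coh.IsQCoh M) (hN : Coh.IsQCoh N) (u : M ⟶ N) (hU : IsAffineOpen U) :
    (Γ(N, U) ⧸ LinearMap.range (QCoh.appLin u U)) ≃ₗ[Γ(X, U)] Γ(cokernel u, U) :=
  (Submodule.quotEquivOfEq _ _ (ker_appLin_cokernel_π hM hN u hU).symm).trans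
    (LinearMap.quotKerEquivOfSurjective _
      (QCoh.app_surjective_of_epi hN (QCoh.isQCoh_cokernel hM hN u) (cokernel.π u) hU))

variable (f : X ⟶ Y) {V : Y.Opens}

theorem flatAt_cokernel_iff (hM : Coh.IsQCoh M) (hN : Coh.IsQCoh N) (u : M ⟶ N) (hU : IsAffineOpen U)
    (hV : IsAffineOpen V) (hle : U ≤ f ⁻¹ᵁ V) (hx : x ∈ U) :
    FlatMod.IsFlatOverAt f (cokernel u) x ↔
      (letI : Algebra Γ(Y, V) Γ(X, U) := (f.appLE V U hle).hom.toAlgebra
       letI : Module Γ(Y, V) Γ(N, U) := Module.compHom _ (f.appLE V U hle).hom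
       haveI : IsScalarTower Γ(Y, V) Γ(X, U) Γ(N, U) := IsScalarTower.of_algebraMap_smul fun _ _ => rfl
       Module.Flat Γ(Y, V) (LocalizedModule (hU.primeIdealOf ⟨x, hx⟩).asIdeal.primeCompl
         (Γ(N, U) ⧸ LinearMap.range (QCoh.appLin u U)))) := by
  letI : Algebra Γ(Y, V) Γ(X, U) := (f.appLE V U hle).hom.toAlgebra
  letI : Module Γ(Y, V) Γ(N, U) := Module.compHom _ (f.appLE V U hle).hom
  haveI : IsScalarTower Γ(Y, V) Γ(X, U) Γ(N, U) := IsScalarTower.of_algebraMap_smul fun _ _ => rfl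
  rw [QCoh.isFlatOverAt_iff f hV hle hx]
  letI := QCoh.stalkModule (cokernel u) hx
  letI : Module Γ(Y, V) ((cokernel u).presheaf.stalk x) :=
    Module.compHom _ ((f.appLE V U hle) ≫ X.presheaf.germ U x hx).hom
  haveI : IsScalarTower Γ(Y, V) Γ(X, U) ((cokernel u).presheaf.stalk x) :=
    IsScalarTower.of_algebraMap_smul fun _ _ => rfl
  haveI := QCoh.isLocalizedModule_germLin (QCoh.isQCoh_cokernel hM hN u) hU hx
  let g := QCoh.germLin (cokernel u) hx ∘ₗ (cokerEquiv hM hN u hU).toLinearMap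
  haveI : IsLocalizedModule (hU.primeIdealOf ⟨x, hx⟩).asIdeal.primeCompl g :=
    IsLocalizedModule.of_linearEquiv_right _ _ _
  let e := (IsLocalizedModule.iso (hU.primeIdealOf ⟨x, hx⟩).asIdeal.primeCompl g).restrictScalars Γ(Y, V)
  exact ⟨fun h => Module.Flat.of_linearEquiv e, fun h => Module.Flat.of_linearEquiv e.symm⟩

theorem germ_mem_smul_top_iff (hM : Coh.IsQCoh M) (hU : IsAffineOpen U) (hV : IsAffineOpen V)
    (hle : U ≤ f ⁻¹ᵁ V) (hx : x ∈ U) (a : Γ(M, U)) :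
    M.presheaf.germ U x hx a ∈
        (Ideal.map (f.stalkMap x).hom (IsLocalRing.maximalIdeal ↑(Y.presheaf.stalk (f x)))) •
          (⊤ : Submodule ↑(X.presheaf.stalk x) ↑(M.presheaf.stalk x)) ↔
      (letI : Algebra Γ(Y, V) Γ(X, U) := (f.appLE V U hle).hom.toAlgebra
       ∃ t ∉ (hU.primeIdealOf ⟨x, hx⟩).asIdeal, t • a ∈
        ((hU.primeIdealOf ⟨x, hx⟩).asIdeal.comap (algebraMap Γ(Y, V) Γ(X, U))).map
          (algebraMap Γ(Y, V) Γ(X, U)) • (⊤ : Submodule Γ(X, U) Γ(M, U))) := by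
  letI : Algebra Γ(Y, V) Γ(X, U) := (f.appLE V U hle).hom.toAlgebra
  letI := QCoh.stalkAlg (X := X) hx
  letI := QCoh.stalkModule M hx
  haveI := QCoh.isScalarTower_stalk M hx
  haveI := QCoh.isLocalization_stalk' hU hx
  haveI := QCoh.isLocalizedModule_germLin hM hU hx
  letI := QCoh.stalkAlg (X := Y) (U := V) (x := f x) (hle hx)
  haveI := QCoh.isLocalization_stalk' hV (hle hx)
  have hp : (hU.primeIdealOf ⟨x, hx⟩).asIdeal.comap (algebraMap Γ(Y, V) Γ(X, U)) =
      (hV.primeIdealOf ⟨f x, hle hx⟩).asIdeal :=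
    congrArg PrimeSpectrum.asIdeal (IsAffineOpen.comap_primeIdealOf_appLE V hV U hU hle hx)
  have hJ : Ideal.map (f.stalkMap x).hom (IsLocalRing.maximalIdeal ↑(Y.presheaf.stalk (f x))) =
      (((hU.primeIdealOf ⟨x, hx⟩).asIdeal.comap (algebraMap Γ(Y, V) Γ(X, U))).map
        (algebraMap Γ(Y, V) Γ(X, U))).map (algebraMap Γ(X, U) ↑(X.presheaf.stalk x)) := by
    rw [hp, ← IsLocalization.AtPrime.map_eq_maximalIdeal (hV.primeIdealOf ⟨f x, hle hx⟩).asIdeal
      (Y.presheaf.stalk (f x)), Ideal.map_map, Ideal.map_map]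
    congr 1
    ext r
    show f.stalkMap x (Y.presheaf.germ V (f x) (hle hx) r) = X.presheaf.germ U x hx (f.appLE V U hle r)
    rw [Scheme.Hom.germ_stalkMap_apply]
    exact (X.presheaf.germ_res_apply (homOfLE hle) x hx _).symm
  rw [hJ]
  exact FlatModel.localized_mem_map_smul_iff (hU.primeIdealOf ⟨x, hx⟩).asIdeal.primeCompl (QCoh.germLin M hx) _ a

/-- A point where a module is flat over the base has affine neighbourhoods of flatness. -/
theorem exists_affine_flat_nhd [LocallyOfFinitePresentation f] {C : X.Modules} (hC : Coh.IsQCoh C)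
    (hCfp : CohB1.IsFP C) (hflat : FlatMod.IsFlatOverAt f C x) (hxU : x ∈ U) :
    ∃ (V : Y.Opens) (W : X.Opens), IsAffineOpen V ∧ IsAffineOpen W ∧ W ≤ f ⁻¹ᵁ V ∧ W ≤ U ∧ x ∈ W ∧
      ∀ y ∈ W, FlatMod.IsFlatOverAt f C y := by
  haveI := hC
  obtain ⟨_, ⟨V, hV, rfl⟩, hxV, -⟩ :=
    Y.isBasis_affineOpens.exists_subset_of_mem_open (Set.mem_univ (f x)) isOpen_univ
  have ho := S4863.result f C hCfp
  obtain ⟨_, ⟨W, hW, rfl⟩, hxW, hle⟩ := X.isBasis_affineOpens.exists_subset_of_mem_open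
    (show x ∈ ((U : Set X) ∩ {z | FlatMod.IsFlatOverAt f C z}) ∩ (f ⁻¹ᵁ V : X.Opens) from ⟨⟨hxU, hflat⟩, hxV⟩)
    ((U.2.inter ho).inter (f ⁻¹ᵁ V).2)
  exact ⟨V, W, hV, hW, fun y hy => (hle hy).2, fun y hy => (hle hy).1.1, hxW, fun y hy => (hle hy).1.2⟩

/-- Where the cokernel is flat over the base, the kernel on an affine open is finitely generated. -/
theorem fg_ker_appLin [LocallyOfFinitePresentation f] (hM : Coh.IsQCoh M) (hMft : CohB1.IsFT M)
    (hN : Coh.IsQCoh N) (hNfp : CohB1.IsFP N) (u : M ⟶ N) (hU : IsAffineOpen U) (hV : IsAffineOpen V)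
    (hle : U ≤ f ⁻¹ᵁ V) (hflat : ∀ y ∈ U, FlatMod.IsFlatOverAt f (cokernel u) y) :
    (LinearMap.ker (QCoh.appLin u U)).FG := by
  letI : Algebra Γ(Y, V) Γ(X, U) := (f.appLE V U hle).hom.toAlgebra
  letI : Module Γ(Y, V) Γ(N, U) := Module.compHom _ (f.appLE V U hle).hom
  haveI : IsScalarTower Γ(Y, V) Γ(X, U) Γ(N, U) := IsScalarTower.of_algebraMap_smul fun _ _ => rfl
  letI : Module Γ(Y, V) Γ(cokernel u, U) := Module.compHom _ (f.appLE V U hle).hom
  haveI : IsScalarTower Γ(Y, V) Γ(X, U) Γ(cokernel u, U) := IsScalarTower.of_algebraMap_smul fun _ _ => rfl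
  haveI : Algebra.FinitePresentation Γ(Y, V) Γ(X, U) := f.finitePresentation_appLE hV hU hle
  haveI := QCoh.finite_of_isFT hM hMft hU
  haveI := QCoh.finitePresentation_of_isFP hNfp hU
  haveI : Module.Flat Γ(Y, V) Γ(cokernel u, U) :=
    (QCoh.flat_appLE_iff f (QCoh.isQCoh_cokernel hM hN u) hU hV hle).2 hflat
  haveI : Module.Flat Γ(Y, V) (Γ(N, U) ⧸ LinearMap.range (QCoh.appLin u U)) :=
    Module.Flat.of_linearEquiv ((cokerEquiv hM hN u hU).restrictScalars Γ(Y, V))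
  exact fg_ker_of_flat (A := Γ(Y, V)) (QCoh.appLin u U)

end Groth.Agent.FlatPt5
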