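import Groth.Agent.FlatPt5.Regular
import Groth.Agent.FlatPt5.Sch
import Groth.Agent.FibreLoc5.Constr

/-!
# Openness of regularity on the fibres
-/

set_option autoImplicit false
set_option backward.isDefEq.respectTransparency false
set_option backward.isDefEq.respectTransparency.types false

universe u

open CategoryTheory AlgebraicGeometry TopologicalSpace RingTheory.Sequence

namespace Groth.Agent.FlatPt5

variable {X Y : Scheme.{u}} (f : X ⟶ Y) {F : X.Modules} {U : X.Opens} {V : Y.Opens} {x : X}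

theorem fibStalk_isWeaklyRegular_iff (hF : Coh.IsQCoh F) (hU : IsAffineOpen U) (hV : IsAffineOpen V)
    (hle : U ≤ f ⁻¹ᵁ V) (hx : x ∈ U) (bs : List Γ(X, U)) :
    IsWeaklyRegular
        (↑(F.presheaf.stalk x) ⧸ (Ideal.map (f.stalkMap x).hom (IsLocalRing.maximalIdeal ↑(Y.presheaf.stalk (f x))) •
          (⊤ : Submodule ↑(X.presheaf.stalk x) ↑(F.presheaf.stalk x))))
        (bs.map (X.presheaf.germ U x hx)) ↔
      (letI : Algebra Γ(Y, V) Γ(X, U) := (f.appLE V U hle).hom.toAlgebra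
       WRAt (hU.primeIdealOf ⟨x, hx⟩).asIdeal bs (fibMod (hU.primeIdealOf ⟨x, hx⟩).asIdeal Γ(Y, V) Γ(F, U))) := by
  letI : Algebra Γ(Y, V) Γ(X, U) := (f.appLE V U hle).hom.toAlgebra
  letI := QCoh.stalkAlg (X := X) hx
  letI := QCoh.stalkModule F hx
  haveI := QCoh.isScalarTower_stalk F hx
  haveI := QCoh.isLocalizedModule_germLin hF hU hx
  set q := (hU.primeIdealOf ⟨x, hx⟩).asIdeal with hq
  let J : Submodule ↑(X.presheaf.stalk x) ↑(F.presheaf.stalk x) :=
    Ideal.map (f.stalkMap x).hom (IsLocalRing.maximalIdeal ↑(Y.presheaf.stalk (f x))) • ⊤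
  let I : Submodule Γ(X, U) Γ(F, U) := (q.comap (algebraMap Γ(Y, V) Γ(X, U))).map (algebraMap Γ(Y, V) Γ(X, U)) • ⊤
  let g₀ : Γ(F, U) →ₗ[Γ(X, U)] ↑(F.presheaf.stalk x) ⧸ J := (J.mkQ.restrictScalars Γ(X, U)) ∘ₗ QCoh.germLin F hx
  have hg₀ : I ≤ LinearMap.ker g₀ := fun a ha => by
    show Submodule.Quotient.mk (F.presheaf.germ U x hx a) = 0
    rw [Submodule.Quotient.mk_eq_zero]
    exact (germ_mem_smul_top_iff f hF hU hV hle hx a).2 ⟨1, fun h => (hU.primeIdealOf ⟨x, hx⟩).isPrime.ne_top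
      ((Ideal.eq_top_iff_one _).2 h), by rw [one_smul]; exact ha⟩
  let g := I.liftQ g₀ hg₀
  have hu : ∀ s : q.primeCompl, IsUnit (X.presheaf.germ U x hx s.1) := fun s =>
    (X.mem_basicOpen _ x hx).1 ((QCoh.mem_basicOpen_iff_notMem hU hx _).2 s.2)
  haveI : IsLocalizedModule q.primeCompl g := by
    refine ⟨fun s => ?_, fun y => ?_, fun {y₁ y₂} he => ?_⟩
    · rw [Module.End.isUnit_iff]
      obtain ⟨v, hv⟩ := hu s
      refine ⟨fun a b h => ?_, fun y => ⟨(↑v⁻¹ : X.presheaf.stalk x) • y, ?_⟩⟩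
      · exact (hu s).smul_left_cancel.1 h
      · show X.presheaf.germ U x hx s.1 • (↑v⁻¹ : X.presheaf.stalk x) • y = y
        rw [← hv, smul_smul, Units.mul_inv, one_smul]
    · obtain ⟨z, rfl⟩ := Submodule.Quotient.mk_surjective _ y
      obtain ⟨a, s, hs, -, ha⟩ := exists_smul_eq_germ hF hU hx z
      exact ⟨(Submodule.Quotient.mk a, ⟨s, hs⟩), congrArg Submodule.Quotient.mk ha⟩
    · obtain ⟨a₁, rfl⟩ := Submodule.Quotient.mk_surjective _ y₁
      obtain ⟨a₂, rfl⟩ := Submodule.Quotient.mk_surjective _ y₂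
      have h1 : F.presheaf.germ U x hx (a₁ - a₂) ∈ J := by
        rw [map_sub]; exact (Submodule.Quotient.eq J).1 he
      obtain ⟨t, ht, hta⟩ := (germ_mem_smul_top_iff f hF hU hV hle hx _).1 h1
      refine ⟨⟨t, ht⟩, ?_⟩
      rw [Submonoid.smul_def, Submonoid.smul_def, ← Submodule.Quotient.mk_smul, ← Submodule.Quotient.mk_smul,
        Submodule.Quotient.eq, ← smul_sub]
      exact hta
  rw [wrAt_iff q g bs]
  exact isWeaklyRegular_map_algebraMap_iff ↑(X.presheaf.stalk x) _ bs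

theorem isOpen_fibre_weaklyRegular [IsLocallyNoetherian Y] [LocallyOfFiniteType f] (hF : Coh.IsCoh F)
    (hflat : FlatMod.IsFlatOver f F) (n : ℕ) (g : Fin n → Γ(X, ⊤)) :
    IsOpen {x : X |
      IsWeaklyRegular
        (↑(F.presheaf.stalk x) ⧸ (Ideal.map (f.stalkMap x).hom (IsLocalRing.maximalIdeal ↑(Y.presheaf.stalk (f x))) •
          (⊤ : Submodule ↑(X.presheaf.stalk x) ↑(F.presheaf.stalk x))))
        (List.ofFn fun i => (X.presheaf.germ ⊤ x trivial) (g i))} := by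
  haveI := FibreLoc5.lfp_of_noetherian' f
  haveI : IsLocallyNoetherian X := LocallyOfFiniteType.isLocallyNoetherian f
  have hFp := QCoh.isCoh_iff_isFP.1 hF
  have hq := QCoh.isQCoh_of_isFP hFp
  rw [isOpen_iff_forall_mem_open]
  intro x hx
  obtain ⟨_, ⟨V, hV, rfl⟩, hxV, -⟩ :=
    Y.isBasis_affineOpens.exists_subset_of_mem_open (Set.mem_univ (f x)) isOpen_univ
  obtain ⟨_, ⟨U, hU, rfl⟩, hxU, hle⟩ :=
    X.isBasis_affineOpens.exists_subset_of_mem_open (show x ∈ f ⁻¹ᵁ V from hxV) (f ⁻¹ᵁ V).2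
  haveI : IsNoetherianRing Γ(X, U) := IsLocallyNoetherian.component_noetherian ⟨U, hU⟩
  letI : Algebra Γ(Y, V) Γ(X, U) := (f.appLE V U hle).hom.toAlgebra
  letI : Module Γ(Y, V) Γ(F, U) := Module.compHom _ (f.appLE V U hle).hom
  haveI : IsScalarTower Γ(Y, V) Γ(X, U) Γ(F, U) := IsScalarTower.of_algebraMap_smul fun _ _ => rfl
  haveI : Algebra.FinitePresentation Γ(Y, V) Γ(X, U) := f.finitePresentation_appLE hV hU hle
  haveI := QCoh.finitePresentation_of_isFP hFp hU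
  haveI : Module.Flat Γ(Y, V) Γ(F, U) := (QCoh.flat_appLE_iff f hq hU hV hle).2 fun y _ => hflat y
  let bs : List Γ(X, U) := List.ofFn fun i => X.presheaf.map (homOfLE le_top).op (g i)
  have key : ∀ (y : X) (hy : y ∈ U),
      (List.ofFn fun i => (X.presheaf.germ ⊤ y trivial) (g i)) = bs.map (X.presheaf.germ U y hy) := fun y hy => by
    simp only [bs, List.map_ofFn]
    congr 1
    funext i
    exact (X.presheaf.germ_res_apply (homOfLE le_top) y hy (g i)).symm
  haveI : ∀ P : Ideal Γ(X, U), [P.IsPrime] → Module.Flat Γ(Y, V) (LocalizedModule P.primeCompl Γ(F, U)) := fun P _ =>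
    QCoh.flat_base_of_isLocalizedModule P.primeCompl (LocalizedModule.mkLinearMap P.primeCompl Γ(F, U))
  have hx' : IsWeaklyRegular _ _ := hx
  rw [key x hxU, fibStalk_isWeaklyRegular_iff f hq hU hV hle hxU] at hx'
  obtain ⟨b, hb, hall⟩ := exists_nhd_wrAt_fib (A := Γ(Y, V)) _ bs hx'
  refine ⟨X.basicOpen b, fun y hy => ?_, (X.basicOpen b).2, (QCoh.mem_basicOpen_iff_notMem hU hxU b).2 hb⟩
  have hyU : y ∈ U := X.basicOpen_le b hy
  show IsWeaklyRegular _ _
  rw [key y hyU, fibStalk_isWeaklyRegular_iff f hq hU hV hle hyU]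
  exact hall _ ((QCoh.mem_basicOpen_iff_notMem hU hyU b).1 hy)

end Groth.Agent.FlatPt5
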